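import Cfsg.Agent.Chev54.RootMove.Level
import Cfsg.Agent.KnownSimple.Steinberg.SLE6
import Cfsg.Agent.Lib.ChevCore.CertE6Table

/-!
Certificates for the recursion in type E6, generated from the table of `Def_ChevE6`.
-/

set_option autoImplicit false

noncomputable section

namespace Cfsg.Agent.E6Deg54

open Cfsg.Lie Cfsg.Agent.RootMove54

instance : NeZero chevE6.nroots := ⟨by decide⟩

instance : Fast chevE6 := Fast.ofLink Cfsg.Agent.ChevCore.chkLinkE6

/-- level -/
def top : Lev chevE6 where
  prior := []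
  R := [56, 57, 58, 59, 60, 61, 62, 63, 64, 65, 66, 67, 68, 69, 70, 71]
  w0 := 56
  kill := [(29, 57), (28, 58), (27, 59), (26, 60), (21, 61), (20, 62), (19, 63), (18, 64), (17, 65), (16, 66)]
  climb := [(42, 56, 57), (43, 56, 58), (44, 56, 59), (45, 56, 60), (50, 56, 61), (51, 56, 62), (52, 56, 63), (53, 56, 64), (54, 56, 65), (55, 56, 66), (53, 57, 67), (54, 57, 68), (55, 57, 69), (55, 58, 70), (55, 61, 71)]
  resd := 4
  res := [(67, [], [(35, 68), (33, 69), (30, 70), (22, 71)]),
    (68, [], [(36, 67), (34, 69), (31, 70), (23, 71)]),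
    (69, [], [(38, 67), (37, 68), (32, 70), (24, 71)]),
    (70, [], [(41, 67), (40, 68), (39, 69), (25, 71)]),
    (71, [], [(49, 67), (48, 68), (47, 69), (46, 70)])]
  path := [(29, 42, 56, 57), (28, 43, 56, 58), (27, 44, 56, 59), (26, 45, 56, 60), (21, 50, 56, 61), (20, 51, 56, 62), (19, 52, 56, 63), (18, 53, 56, 64), (17, 54, 56, 65), (16, 55, 56, 66), (18, 53, 57, 67), (17, 54, 57, 68), (16, 55, 57, 69), (16, 55, 58, 70), (16, 55, 61, 71)]
  cells := [(56, [(29, 57), (28, 58), (27, 59), (26, 60), (21, 61), (20, 62), (19, 63), (18, 64), (17, 65), (16, 66)]),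
    (57, [(32, 58), (31, 59), (30, 60), (24, 61), (23, 62), (22, 63), (18, 67), (17, 68), (16, 69)]),
    (58, [(34, 59), (33, 60), (25, 61), (23, 64), (22, 65), (20, 67), (19, 68), (16, 70)]),
    (59, [(35, 60), (25, 62), (24, 64), (22, 66), (21, 67), (19, 69), (17, 70)]),
    (60, [(25, 63), (24, 65), (23, 66), (21, 68), (20, 69), (18, 70)]),
    (61, [(34, 62), (33, 63), (31, 64), (30, 65), (27, 67), (26, 68), (16, 71)]),
    (62, [(35, 63), (32, 64), (30, 66), (28, 67), (26, 69), (17, 71)]),
    (63, [(32, 65), (31, 66), (28, 68), (27, 69), (18, 71)]),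
    (64, [(35, 65), (33, 66), (29, 67), (26, 70), (19, 71)]),
    (65, [(34, 66), (29, 68), (27, 70), (20, 71)]),
    (66, [(29, 69), (28, 70), (21, 71)]),
    (67, [(35, 68), (33, 69), (30, 70), (22, 71)]),
    (68, [(34, 69), (31, 70), (23, 71)]),
    (69, [(32, 70), (24, 71)]),
    (70, [(25, 71)]),
    (71, [])]

set_option maxRecDepth 100000 in
theorem top_check : top.check = true := by decide +kernel

theorem top_fst : top.cells.map Prod.fst = top.R := by decide +kernel

/-- level -/
def lv0 : Lev chevE6 where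
  prior := []
  R := [36, 38, 41, 45, 49, 52, 54, 55, 60, 63, 65, 66, 68, 69, 70, 71]
  w0 := 36
  kill := [(34, 38), (31, 41), (27, 45), (23, 49), (20, 52), (18, 54), (12, 60), (9, 63), (7, 65), (4, 68)]
  climb := [(37, 36, 38), (40, 36, 41), (44, 36, 45), (48, 36, 49), (51, 36, 52), (53, 36, 54), (53, 38, 55), (59, 36, 60), (62, 36, 63), (64, 36, 65), (64, 38, 66), (67, 36, 68), (67, 38, 69), (67, 41, 70), (67, 49, 71)]
  resd := 4
  res := [(55, [], [(15, 66), (14, 69), (13, 70), (10, 71)]),
    (66, [], [(56, 55), (29, 69), (28, 70), (21, 71)]),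
    (69, [], [(57, 55), (42, 66), (32, 70), (24, 71)]),
    (70, [], [(58, 55), (43, 66), (39, 69), (25, 71)]),
    (71, [], [(61, 55), (50, 66), (47, 69), (46, 70)])]
  path := [(34, 37, 36, 38), (31, 40, 36, 41), (27, 44, 36, 45), (23, 48, 36, 49), (20, 51, 36, 52), (18, 53, 36, 54), (12, 59, 36, 60), (9, 62, 36, 63), (7, 64, 36, 65), (4, 67, 36, 68), (18, 53, 38, 55), (7, 64, 38, 66), (4, 67, 38, 69), (4, 67, 41, 70), (4, 67, 49, 71)]
  cells := [(36, [(34, 38), (31, 41), (27, 45), (23, 49), (20, 52), (18, 54), (12, 60), (9, 63), (7, 65), (4, 68)]),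
    (38, [(32, 41), (28, 45), (24, 49), (21, 52), (18, 55), (13, 60), (10, 63), (7, 66), (4, 69)]),
    (41, [(29, 45), (25, 49), (21, 54), (20, 55), (14, 60), (10, 65), (9, 66), (4, 70)]),
    (45, [(25, 52), (24, 54), (23, 55), (15, 60), (10, 68), (9, 69), (7, 70)]),
    (49, [(29, 52), (28, 54), (27, 55), (14, 63), (13, 65), (12, 66), (4, 71)]),
    (52, [(32, 54), (31, 55), (15, 63), (13, 68), (12, 69), (7, 71)]),
    (54, [(34, 55), (15, 65), (14, 68), (12, 70), (9, 71)]),
    (55, [(15, 66), (14, 69), (13, 70), (10, 71)]),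
    (60, [(25, 63), (24, 65), (23, 66), (21, 68), (20, 69), (18, 70)]),
    (63, [(32, 65), (31, 66), (28, 68), (27, 69), (18, 71)]),
    (65, [(34, 66), (29, 68), (27, 70), (20, 71)]),
    (66, [(29, 69), (28, 70), (21, 71)]),
    (68, [(34, 69), (31, 70), (23, 71)]),
    (69, [(32, 70), (24, 71)]),
    (70, [(25, 71)]),
    (71, [])]

set_option maxRecDepth 100000 in
theorem lv0_check : lv0.check = true := by decide +kernel

theorem lv0_fst : lv0.cells.map Prod.fst = lv0.R := by decide +kernel

/-- level -/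
def lv1 : Lev chevE6 where
  prior := lv0.P
  R := [37, 40, 44, 48, 51, 53, 59, 62, 64, 67]
  w0 := 37
  kill := [(32, 40), (28, 44), (24, 48), (21, 51), (13, 59), (10, 62)]
  climb := [(39, 37, 40), (43, 37, 44), (47, 37, 48), (50, 37, 51), (50, 40, 53), (58, 37, 59), (61, 37, 62), (61, 40, 64), (61, 44, 67)]
  resd := 2
  res := [(53, [], [(15, 64), (14, 67)]),
    (64, [], [(56, 53), (29, 67)]),
    (67, [], [(57, 53), (42, 64)])]
  path := [(32, 39, 37, 40), (28, 43, 37, 44), (24, 47, 37, 48), (21, 50, 37, 51), (13, 58, 37, 59), (10, 61, 37, 62), (21, 50, 40, 53), (10, 61, 40, 64), (10, 61, 44, 67)]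
  cells := [(37, [(32, 40), (28, 44), (24, 48), (21, 51), (13, 59), (10, 62)]),
    (40, [(29, 44), (25, 48), (21, 53), (14, 59), (10, 64)]),
    (44, [(25, 51), (24, 53), (15, 59), (10, 67)]),
    (48, [(29, 51), (28, 53), (14, 62), (13, 64)]),
    (51, [(32, 53), (15, 62), (13, 67)]),
    (53, [(15, 64), (14, 67)]),
    (59, [(25, 62), (24, 64), (21, 67)]),
    (62, [(32, 64), (28, 67)]),
    (64, [(29, 67)]),
    (67, [])]

set_option maxRecDepth 100000 in
theorem lv1_check : lv1.check = true := by decide +kernel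

theorem lv1_fst : lv1.cells.map Prod.fst = lv1.R := by decide +kernel

/-- level -/
def lv2 : Lev chevE6 where
  prior := lv1.P
  R := [46, 47, 50, 61]
  w0 := 46
  kill := [(32, 47), (28, 50), (13, 61)]
  climb := [(39, 46, 47), (43, 46, 50), (58, 46, 61)]
  resd := 0
  res := []
  path := [(32, 39, 46, 47), (28, 43, 46, 50), (13, 58, 46, 61)]
  cells := [(46, [(32, 47), (28, 50), (13, 61)]),
    (47, [(29, 50), (14, 61)]),
    (50, [(15, 61)]),
    (61, [])]

set_option maxRecDepth 100000 in
theorem lv2_check : lv2.check = true := by decide +kernel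

theorem lv2_fst : lv2.cells.map Prod.fst = lv2.R := by decide +kernel

/-- level -/
def lv3 : Lev chevE6 where
  prior := lv2.P
  R := [39, 43, 58]
  w0 := 39
  kill := [(29, 43), (14, 58)]
  climb := [(42, 39, 43), (57, 39, 58)]
  resd := 0
  res := []
  path := [(29, 42, 39, 43), (14, 57, 39, 58)]
  cells := [(39, [(29, 43), (14, 58)]),
    (43, [(15, 58)]),
    (58, [])]

set_option maxRecDepth 100000 in
theorem lv3_check : lv3.check = true := by decide +kernel

theorem lv3_fst : lv3.cells.map Prod.fst = lv3.R := by decide +kernel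

/-- level -/
def lv4 : Lev chevE6 where
  prior := lv3.P
  R := [42, 57]
  w0 := 42
  kill := [(15, 57)]
  climb := [(56, 42, 57)]
  resd := 0
  res := []
  path := [(15, 56, 42, 57)]
  cells := [(42, [(15, 57)]),
    (57, [])]

set_option maxRecDepth 100000 in
theorem lv4_check : lv4.check = true := by decide +kernel

theorem lv4_fst : lv4.cells.map Prod.fst = lv4.R := by decide +kernel

/-- level -/
def lv5 : Lev chevE6 where
  prior := lv4.P
  R := [56]
  w0 := 56
  kill := []
  climb := []
  resd := 0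
  res := []
  path := []
  cells := [(56, [])]

set_option maxRecDepth 100000 in
theorem lv5_check : lv5.check = true := by decide +kernel

theorem lv5_fst : lv5.cells.map Prod.fst = lv5.R := by decide +kernel

/-- positive roots stabilising the character, as commutators of stabilisers -/
def stab : List (Rt chevE6 × Rt chevE6 × Rt chevE6) :=
  [(36, 23, 49), (37, 24, 48), (38, 24, 49), (39, 25, 47), (40, 25, 48), (41, 25, 49), (42, 22, 52), (43, 22, 54), (44, 22, 55), (45, 23, 55), (46, 30, 49), (47, 33, 49), (48, 35, 49), (49, 36, 48), (50, 30, 54), (51, 30, 55), (52, 31, 55), (53, 33, 55), (54, 34, 55), (55, 37, 54)]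

/-- pairs producing `α₁` from the radical of a level -/
def nv : List (Lev chevE6 × Rt chevE6 × Rt chevE6) :=
  [(lv0, 60, 26), (lv1, 59, 27), (lv2, 61, 21), (lv3, 58, 28), (lv4, 57, 29)]

/-- roots centralising `α₁` -/
def centRoots : List (Rt chevE6) := [22, 23, 24, 25, 30, 31, 32, 33, 34, 35, 36, 37, 38, 39, 40, 41, 46, 47, 48, 49]

/-- the five roots of the orbit -/
def five : List (Rt chevE6) := [67, 68, 69, 70, 71]

/-- moves between the five roots -/
def pairs : List (Rt chevE6 × Rt chevE6 × Rt chevE6) :=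
  [(36, 67, 68), (38, 67, 69), (41, 67, 70), (49, 67, 71), (35, 68, 67), (37, 68, 69), (40, 68, 70), (48, 68, 71), (33, 69, 67), (34, 69, 68), (39, 69, 70), (47, 69, 71), (30, 70, 67), (31, 70, 68), (32, 70, 69), (46, 70, 71), (22, 71, 67), (23, 71, 68), (24, 71, 69), (25, 71, 70)]

end Cfsg.Agent.E6Deg54
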