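import Cfsg.Agent.Chev54.E6Deg.Orbit
import Cfsg.Agent.Lib.CharClifford.Central
import Cfsg.Agent.Lib.CharClifford.Burnside
import Cfsg.Agent.ChevGroup.Mat.OrderE6
import Mathlib.NumberTheory.LegendreSymbol.Complex

/-!
The least degree of a nontrivial irreducible representation in type E6.
-/

set_option autoImplicit false

noncomputable section

namespace Cfsg.Agent.E6Deg54

open Cfsg.Lie Cfsg.Agent.ChevCore Cfsg.Agent.KnownSimple.Steinberg Cfsg.Agent.RootMove54

universe u

variable {F : Type u} [Field F] [Fintype F] {k : ℕ}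

set_option maxRecDepth 100000 in
theorem res_split : Ctx.splitB [] (top.kill.map Prod.snd ++ (top.w0 :: top.prior)) (top.res.map Prod.fst) = true := by
  decide +kernel

set_option maxRecDepth 100000 in
theorem res_cover : ∀ x : Rt chevE6,
    x ∈ top.res.map Prod.fst ++ (top.kill.map Prod.snd ++ (top.w0 :: top.prior)) ↔ x ∈ top.P := by
  decide +kernel

theorem kill_length : (top.kill.map Prod.snd).length = 10 := rfl

variable {C : Ctx chevE6 F k}

namespace Small

variable (h : Small C)

include h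

theorem root_mult {b : F} (hb : b ≠ 0) : C.mf [a1] (fun _ => b) = Fintype.card F ^ 10 := by
  obtain ⟨h1, h2⟩ := h.top_single b hb
  have hc := top_check
  simp only [Lev.check, Bool.and_eq_true, decide_eq_true_eq, List.all_eq_true] at hc
  obtain ⟨⟨⟨⟨⟨⟨⟨⟨⟨⟨⟨⟨⟨⟨⟨-, -⟩, -⟩, -⟩, -⟩, hkill⟩, hkR⟩, -⟩, hkill1⟩, hsp1⟩, -⟩, -⟩, -⟩, -⟩, -⟩, -⟩ := hc
  have hcg : C.mf [a1] (fun _ => b) = C.mf (top.w0 :: top.prior) (dlt a1 b) := by
    refine C.mf_congr (fun s => Iff.rfl) fun s hs => ?_
    obtain rfl := List.mem_singleton.1 hs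
    rw [dlt_self]
  rw [hcg]
  refine le_antisymm ?_ ?_
  · have := C.split_upper (top.kill.map Prod.snd) (top.w0 :: top.prior) (dlt a1 b) hsp1
      (fun z hz => absurd hz List.not_mem_nil) 1 fun g hg => ?_
    · rwa [kill_length, mul_one] at this
    have hgw : g top.w0 = b := by rw [hg _ List.mem_cons_self]; exact dlt_self a1 b
    obtain ⟨g', hg', hgK, hg0⟩ := C.lift top.kill [] g hkill1 (fun z hz => absurd hz List.not_mem_nil)
      (by rw [hgw]; exact hb) le_rfl (fun _ => 0)
    have hg'w : g' top.w0 = b := (hgK _ (by simp)).trans hgw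
    have hres : ∀ x ∈ top.res.map Prod.fst, x ≠ top.w0 := by decide +kernel
    have hkn : ∀ x ∈ top.kill.map Prod.snd, x ≠ top.w0 := by decide +kernel
    have e1 : C.mf (top.kill.map Prod.snd ++ (top.w0 :: top.prior)) g' =
        C.mf (top.kill.map Prod.snd ++ (top.w0 :: top.prior)) (dlt a1 b) := by
      refine C.mf_congr (fun _ => Iff.rfl) fun x hx => ?_
      rcases List.mem_append.1 hx with hx | hx
      · obtain ⟨p, hp, rfl⟩ := List.mem_map.1 hx
        rw [hg0 p hp]
        exact (dlt_ne (hkn _ (List.mem_map_of_mem hp)) b).symm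
      · obtain rfl := List.mem_singleton.1 hx
        rw [hg'w]
        exact (dlt_self a1 b).symm
    refine hg'.trans (e1.trans_le ?_)
    refine (C.split_zero (top.res.map Prod.fst) _ _ res_split (fun z hz => absurd hz List.not_mem_nil)
      (fun x hx => dlt_ne (hres x hx) b) fun f hf hne => ?_).trans
      ((C.mf_congr res_cover fun _ _ => rfl).trans_le h2)
    by_contra hf0
    have hf1 : 1 ≤ C.mf top.P f := by
      rw [← C.mf_congr res_cover (f := f) (g := f) fun _ _ => rfl]
      omega
    obtain ⟨x, hx, hfx⟩ := hne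
    obtain ⟨e₀, he₀, rfl⟩ := List.mem_map.1 hx
    have hseen : Ctx.seenB [] top.res = true := by decide +kernel
    obtain ⟨e, he, hge, hze⟩ := Ctx.first_nonzero f top.res [] hseen
      (fun x hx => absurd hx List.not_mem_nil) ⟨e₀, he₀, hfx⟩
    have := C.residual_big top_check (g' := f) (fun z hz => absurd hz List.not_mem_nil)
      (by rw [hf _ (List.mem_append_right _ List.mem_cons_self)]; exact (dlt_self a1 b).symm ▸ hb)
      (fun p hp => by
        rw [hf _ (List.mem_append_left _ (List.mem_map_of_mem hp))]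
        exact dlt_ne (hkn _ (List.mem_map_of_mem hp)) b) hf1 he hge hze
    have hk0 : C.mf top.prior (fun _ : Rt chevE6 => (0 : F)) = k := C.mf_nil _
    rw [mul_one, hk0] at this
    have := top_big _ h.q2
    have := h.lt
    omega
  · have := C.split_lower (top.kill.map Prod.snd) (top.w0 :: top.prior) (dlt a1 b) hsp1
      (fun z hz => absurd hz List.not_mem_nil) 1 fun g hg => ?_
    · rwa [kill_length, mul_one] at this
    obtain ⟨g', hg', hgK, hg0⟩ := C.lift top.kill [] (dlt a1 b) hkill
      (fun z hz => absurd hz List.not_mem_nil) (by rw [top_w0, dlt_self]; exact hb) h1 g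
    refine hg'.trans (C.mf_mono fun x hx => ?_)
    rcases List.mem_append.1 hx with hx | hx
    · obtain ⟨p, hp, rfl⟩ := List.mem_map.1 hx
      exact ⟨List.mem_append_left _ (hkR p hp), hg0 p hp⟩
    · obtain rfl := List.mem_singleton.1 hx
      exact ⟨top_a1, by rw [hgK _ (by simp), hg _ List.mem_cons_self]⟩

theorem char_root : ∃ n : ℕ, n + Fintype.card F ^ 11 = k ∧ C.ρ.character (X C.hS a1 (1 : F)) = (n : ℂ) := by
  classical
  set m0 := C.mf [a1] (fun _ : Rt chevE6 => (0 : F)) with hm0
  have hk : k = ∑ a : F, C.mf [a1] (fun _ => a) := by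
    have := C.finrank_split a1 [] (fun _ : Rt chevE6 => (0 : F)) List.not_mem_nil
      fun u x _ => by intro s hs; simp at hs
    rw [C.mf_nil] at this
    exact this.trans (Finset.sum_congr rfl fun a _ => C.mf_congr (fun _ => Iff.rfl) fun s hs => by
      obtain rfl := List.mem_singleton.1 hs
      rw [Function.update_self])
  rw [← Finset.add_sum_erase _ _ (Finset.mem_univ (0 : F)),
    Finset.sum_congr rfl fun a ha => h.root_mult (Finset.mem_erase.1 ha).1, Finset.sum_const,
    Finset.card_erase_of_mem (Finset.mem_univ _), Finset.card_univ, smul_eq_mul, ← hm0] at hk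
  have hchar : C.ρ.character (X C.hS a1 (1 : F)) = (m0 : ℂ) - (Fintype.card F : ℂ) ^ 10 := by
    rw [C.trace_X, ← Finset.add_sum_erase _ _ (Finset.mem_univ (0 : F)), zero_mul,
      AddChar.map_zero_eq_one, one_mul, ← hm0,
      Finset.sum_congr rfl fun a ha => by rw [h.root_mult (Finset.mem_erase.1 ha).1, mul_one]]
    rw [← Finset.sum_mul, sub_eq_add_neg]
    congr 1
    have hne : C.ψ ≠ 1 := fun e => C.hψ one_ne_zero (by rw [e]; ext; simp)
    have hs : ∑ a : F, C.ψ a = 0 := AddChar.sum_eq_zero_of_ne_one hne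
    rw [← Finset.add_sum_erase _ _ (Finset.mem_univ (0 : F)), AddChar.map_zero_eq_one,
      add_eq_zero_iff_eq_neg] at hs
    rw [show ∑ a ∈ Finset.univ.erase (0 : F), C.ψ a = -1 by linear_combination hs]
    push_cast
    ring
  refine ⟨k - Fintype.card F ^ 11, ?_, ?_⟩
  · have h0 := h.lower
    have hq := h.q2
    have : Fintype.card F ^ 11 + 6 ≤ bnd (Fintype.card F) := by
      obtain ⟨w, hw⟩ : ∃ w, Fintype.card F = w + 2 := ⟨Fintype.card F - 2, by omega⟩
      rw [hw]
      simp only [bnd]
      ring_nf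
      omega
    omega
  · rw [hchar]
    have hle : Fintype.card F ^ 11 ≤ k := by
      have h0 := h.lower
      have hq := h.q2
      have : Fintype.card F ^ 11 + 6 ≤ bnd (Fintype.card F) := by
        obtain ⟨w, hw⟩ : ∃ w, Fintype.card F = w + 2 := ⟨Fintype.card F - 2, by omega⟩
        rw [hw]
        simp only [bnd]
        ring_nf
        omega
      omega
    rw [Nat.cast_sub hle]
    conv_rhs => rw [hk]
    rw [Nat.cast_add, Nat.cast_mul, Nat.cast_sub (show 1 ≤ Fintype.card F by have := h.q2; omega)]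
    push_cast
    ring

theorem dvd_ord : k ∣ ord' (Fintype.card F) := by
  haveI := h.irr
  haveI : Finite ↥(chevE6.group F) := inferInstance
  have hd := Cfsg.Agent.CharClifford.finrank_dvd_card C.ρ
  rw [Module.finrank_fin_fun] at hd
  refine hd.trans ⟨Nat.gcd 3 (Fintype.card F - 1), ?_⟩
  have := Cfsg.Agent.ChevGroup.TypeE6.card_group (F := F)
    (Cfsg.Agent.ChevGroup.torusFacts_of_good commGoodE6.toGood)
    (Cfsg.Agent.ChevGroup.relsOfCommGood commGoodE6 F) rfl
  rw [ord', ← this, mul_comm]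

theorem special {r n : ℕ} (hr : r.Prime) (hr5 : r ∣ Fintype.card F ^ 5 - 1)
    (hr2 : ¬ r * r ∣ ord' (Fintype.card F)) (hrk : r ∣ k) (hn : n + Fintype.card F ^ 11 = k)
    (hrn : ¬ r ∣ n) : False := by
  classical
  obtain ⟨n', hn', hch⟩ := h.char_root
  obtain rfl : n' = n := by omega
  haveI := h.irr
  letI : Fintype ↥(chevE6.group F) := Fintype.ofFinite _
  set x := X C.hS a1 (1 : F) with hx
  have hom := Cfsg.Agent.CharClifford.omega_mul_finrank C.ρ x
  rw [Module.finrank_fin_fun, hch] at hom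
  set S := (Finset.univ.filter (fun y => ConjClasses.mk y = ConjClasses.mk x)).card with hSdef
  have hS : S = Nat.card (ConjClasses.mk x).carrier := by
    rw [hSdef, ← Cfsg.Agent.CharClifford.card_class_filter]
  have hdvd : k ∣ S * n' := Cfsg.Agent.CharClifford.dvd_of_mul_isIntegral
    (Cfsg.Agent.CharClifford.isIntegral_omega C.ρ (ConjClasses.mk x)) (by push_cast; rw [mul_comm (k : ℂ)]; convert hom.symm using 4; all_goals first | rfl | (ext; simp))
  have hrS : r ∣ S := (hr.dvd_mul.1 (hrk.trans hdvd)).resolve_right hrn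
  have hcard : S * Nat.card ↥(Subgroup.centralizer {x}) = Nat.card ↥(chevE6.group F) := by
    rw [hS]
    have e := MulAction.card_orbit_mul_card_stabilizer_eq_card_group (ConjAct ↥(chevE6.group F)) x
    simp only [← Nat.card_eq_fintype_card] at e
    rw [ConjAct.orbit_eq_carrier_conjClasses] at e
    rw [Nat.card_congr (ConjAct.toConjAct (G := ↥(chevE6.group F))).toEquiv]
    refine Eq.trans (congrArg _ ?_) e
    rw [Subgroup.centralizer_eq_comap_stabilizer]
    exact Nat.card_congr
      { toFun := fun g => ⟨ConjAct.toConjAct g.1, g.2⟩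
        invFun := fun g => ⟨ConjAct.ofConjAct g.1, g.2⟩
        left_inv := fun g => rfl
        right_inv := fun g => rfl }
  have hc : r ∣ Nat.card ↥(Subgroup.centralizer {x}) := hr5.trans dvd_card_centralizer
  have hG : r * r ∣ Nat.card ↥(chevE6.group F) := hcard ▸ Nat.mul_dvd_mul hrS hc
  refine hr2 (hG.trans ⟨Nat.gcd 3 (Fintype.card F - 1), ?_⟩)
  have := Cfsg.Agent.ChevGroup.TypeE6.card_group (F := F)
    (Cfsg.Agent.ChevGroup.torusFacts_of_good commGoodE6.toGood)
    (Cfsg.Agent.ChevGroup.relsOfCommGood commGoodE6 F) rfl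
  rw [ord', ← this, mul_comm]

end Small

/-- the bound in type E6 -/
theorem bound (ρ : Representation ℂ ↥(chevE6.group F) (Fin k → ℂ)) (hρ : ρ.IsIrreducible) (hk : 2 ≤ k) :
    bnd (Fintype.card F) ≤ k := by
  classical
  by_contra hlt
  push Not at hlt
  let C : Ctx chevE6 F k :=
    ⟨sldE6, ρ, _, AddChar.FiniteField.primitiveChar_to_Complex_isPrimitive F⟩
  have h : Small C := ⟨hρ, hk, hlt⟩
  have hlow := h.lower
  have hd := h.dvd_ord
  have hq : IsPrimePow (Fintype.card F) := by
    obtain ⟨p, hp⟩ := CharP.exists F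
    haveI := hp
    obtain ⟨n, hpp, hn⟩ := FiniteField.card F p
    exact (isPrimePow_nat_iff _).2 ⟨p, n, hpp, n.pos, hn.symm⟩
  obtain ⟨e, he1, he6, hke⟩ : ∃ e, 1 ≤ e ∧ e ≤ 6 ∧ k = bnd (Fintype.card F) - e :=
    ⟨bnd (Fintype.card F) - k, by omega, by omega, by omega⟩
  have hd' : bnd (Fintype.card F) - e ∣ ord' (Fintype.card F) := hke ▸ hd
  rcases dvd_cases hq he1 he6 hd' with ⟨h2, rfl⟩ | ⟨h4, rfl⟩
  · have hk2 : k = 2480 := by rw [hke, h2]; rfl
    exact h.special (r := 31) (n := 432) (by norm_num) (by rw [h2]; norm_num)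
      (by rw [h2]; norm_num [ord']) (by rw [hk2]; norm_num) (by rw [hk2, h2]; norm_num) (by norm_num)
  · have hk4 : k = 4277504 := by rw [hke, h4]; rfl
    exact h.special (r := 31) (n := 83200) (by norm_num) (by rw [h4]; norm_num)
      (by rw [h4]; norm_num [ord']) (by rw [hk4]; norm_num) (by rw [hk4, h4]; norm_num) (by norm_num)

end Cfsg.Agent.E6Deg54
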