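import Mathlib.Algebra.IsPrimePow
import Mathlib.Data.Nat.Prime.Pow
import Mathlib.Data.Int.GCD
import Mathlib.RingTheory.Int.Basic
import Mathlib.Tactic.Ring
import Mathlib.Tactic.LinearCombination
import Mathlib.Tactic.Positivity
import Mathlib.Tactic.NormNum
import Mathlib.Tactic.Linarith

/-!
Arithmetic for the degree bound of E6: the degrees just below the bound do not divide the group order.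
-/

set_option autoImplicit false

namespace Cfsg.Agent.E6Deg54

/-- the bound -/
def bnd (q : ℕ) : ℕ := q * (q ^ 6 + q ^ 3 + 1) * (q ^ 4 + 1)

/-- the order, up to the centre -/
def ord' (q : ℕ) : ℕ :=
  q ^ 36 * (q ^ 2 - 1) * (q ^ 5 - 1) * (q ^ 6 - 1) * (q ^ 8 - 1) * (q ^ 9 - 1) * (q ^ 12 - 1)

theorem peel {d a s t L : ℤ} (h : s * d + t * a = L) (m : ℕ) : ∀ b : ℤ, d ∣ a ^ m * b → d ∣ L ^ m * b := by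
  induction m with
  | zero => intro b hb; simpa using hb
  | succ m ih =>
    intro b hb
    have h1 : d ∣ L ^ m * (a * b) := ih (a * b) (by rwa [pow_succ, mul_assoc] at hb)
    obtain ⟨c, hc⟩ := h1
    refine ⟨s * L ^ m * b + t * c, ?_⟩
    calc L ^ (m + 1) * b = (s * d + t * a) * (L ^ m * b) := by rw [h]; ring
      _ = _ := by linear_combination t * hc

theorem peel_prime_pow {q : ℕ} (hq : IsPrimePow q) {d : ℤ} {c : ℤ} {r b : ℤ}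
    (hd : d = c + (q : ℤ) * r) (hc : c ≠ 0) (hcq : c.natAbs < q) (h : d ∣ (q : ℤ) ^ 36 * b) :
    d ∣ c * b := by
  obtain ⟨p, n, hp, hn, rfl⟩ := (isPrimePow_nat_iff q).1 hq
  have hg : Int.gcd d (((p ^ n : ℕ) : ℤ) ^ 36) ∣ c.natAbs := by
    set g := Int.gcd d (((p ^ n : ℕ) : ℤ) ^ 36) with hgdef
    have h1 : g ∣ p ^ (n * 36) := by
      have := Int.gcd_dvd_right d (((p ^ n : ℕ) : ℤ) ^ 36)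
      rw [pow_mul]; exact_mod_cast this
    obtain ⟨j, -, hj⟩ := (Nat.dvd_prime_pow hp).1 h1
    have h2 : (g : ℤ) ∣ d := Int.gcd_dvd_left _ _
    rcases le_or_gt n j with hle | hlt
    · exfalso
      have h3 : ((p ^ n : ℕ) : ℤ) ∣ c := by
        have h4 : ((p ^ n : ℕ) : ℤ) ∣ d :=
          dvd_trans (Int.natCast_dvd_natCast.2 (hj ▸ pow_dvd_pow p hle)) h2
        rw [hd] at h4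
        exact (Int.dvd_add_left (dvd_mul_right _ _)).1 h4
      have := Nat.le_of_dvd (Int.natAbs_pos.2 hc) (Int.natCast_dvd.1 h3)
      omega
    · have h3 : (g : ℤ) ∣ ((p ^ n : ℕ) : ℤ) := Int.natCast_dvd_natCast.2 (hj ▸ pow_dvd_pow p hlt.le)
      exact Int.natCast_dvd.1 ((Int.dvd_add_left (h3.trans (dvd_mul_right _ r))).1 (hd ▸ h2))
  have h5 : d ∣ (Int.gcd d (((p ^ n : ℕ) : ℤ) ^ 36) : ℤ) * b := by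
    rw [Int.gcd_eq_gcd_ab, add_mul]
    refine dvd_add ((dvd_mul_right _ _).mul_right _) ?_
    rw [mul_comm (((p ^ n : ℕ) : ℤ) ^ 36) _, mul_assoc]
    exact h.mul_left _
  exact h5.trans (mul_dvd_mul_right (Int.natCast_dvd.2 hg) b)

theorem ord'_cast {q : ℕ} (hq : 1 ≤ q) : (ord' q : ℤ) = (q : ℤ) ^ 36 *
    (((-1) + 1 * (q : ℤ) ^ 1) ^ 6 * (1 + 1 * (q : ℤ) ^ 1) ^ 4 * (1 + 1 * (q : ℤ) ^ 1 + 1 * (q : ℤ) ^ 2) ^ 3 * (1 + 1 * (q : ℤ) ^ 2) ^ 2 * (1 + 1 * (q : ℤ) ^ 1 + 1 * (q : ℤ) ^ 2 + 1 * (q : ℤ) ^ 3 + 1 * (q : ℤ) ^ 4) ^ 1 * (1 + (-1) * (q : ℤ) ^ 1 + 1 * (q : ℤ) ^ 2) ^ 2 * (1 + 1 * (q : ℤ) ^ 4) ^ 1 * (1 + 1 * (q : ℤ) ^ 3 + 1 * (q : ℤ) ^ 6) ^ 1 * (1 + (-1) * (q : ℤ) ^ 2 + 1 * (q : ℤ) ^ 4) ^ 1) := by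
  simp only [ord', Nat.cast_mul, Nat.cast_sub (Nat.one_le_pow _ _ hq), Nat.cast_pow, Nat.cast_one]
  ring

theorem not_dvd_1 {q : ℕ} (hq : IsPrimePow q) (hq0 : 195 ≤ q) : ¬ (bnd q - 1) ∣ ord' q := by
  intro h
  have hle : 1 ≤ bnd q := by
    have h1 : 1 ≤ (q ^ 6 + q ^ 3 + 1) * (q ^ 4 + 1) := Nat.one_le_iff_ne_zero.2 (by positivity)
    calc 1 ≤ q * 1 := by omega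
      _ ≤ _ := by rw [bnd, mul_assoc]; exact Nat.mul_le_mul_left _ h1
  have h' : ((bnd q - 1 : ℕ) : ℤ) ∣ (ord' q : ℤ) := Int.natCast_dvd_natCast.2 h
  rw [Nat.cast_sub hle, ord'_cast (by omega)] at h'
  simp only [bnd, Nat.cast_mul, Nat.cast_add, Nat.cast_pow, Nat.cast_one, Nat.cast_ofNat] at h'
  set x : ℤ := (q : ℤ) with hx
  set k : ℤ := (-1) + 1 * x ^ 2 + 1 * x ^ 3 + 1 * x ^ 4 + 1 * x ^ 5 + 1 * x ^ 8 + 1 * x ^ 9 with hk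
  replace h' : k ∣ x ^ 36 * (((-1) + 1 * x ^ 1) ^ 6 * (1 + 1 * x ^ 1) ^ 4 * (1 + 1 * x ^ 1 + 1 * x ^ 2) ^ 3 * (1 + 1 * x ^ 2) ^ 2 * (1 + 1 * x ^ 1 + 1 * x ^ 2 + 1 * x ^ 3 + 1 * x ^ 4) ^ 1 * (1 + (-1) * x ^ 1 + 1 * x ^ 2) ^ 2 * (1 + 1 * x ^ 4) ^ 1 * (1 + 1 * x ^ 3 + 1 * x ^ 6) ^ 1 * (1 + (-1) * x ^ 2 + 1 * x ^ 4) ^ 1) := by
    refine dvd_trans ⟨1 + (-1) * x ^ 1 + 1 * x ^ 2, ?_⟩ h'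
    rw [hk]; ring
  replace h' := peel_prime_pow hq (r := 1 * x ^ 1 + 1 * x ^ 2 + 1 * x ^ 3 + 1 * x ^ 4 + 1 * x ^ 7 + 1 * x ^ 8) (c := -1) (by rw [hk]; ring) (by norm_num) (by norm_num; omega) h'
  simp only [← mul_assoc] at h'
  replace h' : k ∣ (5 : ℤ) ^ 6 * ((-1 : ℤ) * (1 + 1 * x ^ 1) ^ 4 * (1 + 1 * x ^ 1 + 1 * x ^ 2) ^ 3 * (1 + 1 * x ^ 2) ^ 2 * (1 + 1 * x ^ 1 + 1 * x ^ 2 + 1 * x ^ 3 + 1 * x ^ 4) ^ 1 * (1 + (-1) * x ^ 1 + 1 * x ^ 2) ^ 2 * (1 + 1 * x ^ 4) ^ 1 * (1 + 1 * x ^ 3 + 1 * x ^ 6) ^ 1 * (1 + (-1) * x ^ 2 + 1 * x ^ 4) ^ 1) := by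
    refine peel (s := 1) (t := (-6) + (-6) * x ^ 1 + (-5) * x ^ 2 + (-4) * x ^ 3 + (-3) * x ^ 4 + (-2) * x ^ 5 + (-2) * x ^ 6 + (-2) * x ^ 7 + (-1) * x ^ 8) (a := (-1) + 1 * x ^ 1) (by rw [hk]; ring) 6 _ (h'.trans (dvd_of_eq ?_))
    ring
  replace h' : k ∣ (1 : ℤ) ^ 4 * ((-1 : ℤ) * (5 : ℤ) ^ 6 * (1 + 1 * x ^ 1 + 1 * x ^ 2) ^ 3 * (1 + 1 * x ^ 2) ^ 2 * (1 + 1 * x ^ 1 + 1 * x ^ 2 + 1 * x ^ 3 + 1 * x ^ 4) ^ 1 * (1 + (-1) * x ^ 1 + 1 * x ^ 2) ^ 2 * (1 + 1 * x ^ 4) ^ 1 * (1 + 1 * x ^ 3 + 1 * x ^ 6) ^ 1 * (1 + (-1) * x ^ 2 + 1 * x ^ 4) ^ 1) := by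
    refine peel (s := (-1)) (t := 1 * x ^ 2 + 1 * x ^ 4 + 1 * x ^ 8) (a := 1 + 1 * x ^ 1) (by rw [hk]; ring) 4 _ (h'.trans (dvd_of_eq ?_))
    ring
  replace h' : k ∣ (2 : ℤ) ^ 3 * ((-1 : ℤ) * (5 : ℤ) ^ 6 * (1 : ℤ) ^ 4 * (1 + 1 * x ^ 2) ^ 2 * (1 + 1 * x ^ 1 + 1 * x ^ 2 + 1 * x ^ 3 + 1 * x ^ 4) ^ 1 * (1 + (-1) * x ^ 1 + 1 * x ^ 2) ^ 2 * (1 + 1 * x ^ 4) ^ 1 * (1 + 1 * x ^ 3 + 1 * x ^ 6) ^ 1 * (1 + (-1) * x ^ 2 + 1 * x ^ 4) ^ 1) := by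
    refine peel (s := 1 * x ^ 1) (t := 2 + (-1) * x ^ 1 + (-1) * x ^ 2 + 1 * x ^ 3 + (-1) * x ^ 4 + (-1) * x ^ 5 + 1 * x ^ 6 + (-1) * x ^ 8) (a := 1 + 1 * x ^ 1 + 1 * x ^ 2) (by rw [hk]; ring) 3 _ (h'.trans (dvd_of_eq ?_))
    ring
  replace h' : k ∣ (1 : ℤ) ^ 2 * ((-1 : ℤ) * (5 : ℤ) ^ 6 * (1 : ℤ) ^ 4 * (2 : ℤ) ^ 3 * (1 + 1 * x ^ 1 + 1 * x ^ 2 + 1 * x ^ 3 + 1 * x ^ 4) ^ 1 * (1 + (-1) * x ^ 1 + 1 * x ^ 2) ^ 2 * (1 + 1 * x ^ 4) ^ 1 * (1 + 1 * x ^ 3 + 1 * x ^ 6) ^ 1 * (1 + (-1) * x ^ 2 + 1 * x ^ 4) ^ 1) := by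
    refine peel (s := (-1) * x ^ 1) (t := 1 + (-1) * x ^ 1 + (-1) * x ^ 2 + 2 * x ^ 3 + 2 * x ^ 4 + (-1) * x ^ 5 + (-1) * x ^ 6 + 1 * x ^ 7 + 1 * x ^ 8) (a := 1 + 1 * x ^ 2) (by rw [hk]; ring) 2 _ (h'.trans (dvd_of_eq ?_))
    ring
  replace h' : k ∣ (5 : ℤ) ^ 1 * ((-1 : ℤ) * (5 : ℤ) ^ 6 * (1 : ℤ) ^ 4 * (2 : ℤ) ^ 3 * (1 : ℤ) ^ 2 * (1 + (-1) * x ^ 1 + 1 * x ^ 2) ^ 2 * (1 + 1 * x ^ 4) ^ 1 * (1 + 1 * x ^ 3 + 1 * x ^ 6) ^ 1 * (1 + (-1) * x ^ 2 + 1 * x ^ 4) ^ 1) := by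
    refine peel (s := (-4) + 2 * x ^ 1 + (-2) * x ^ 2 + (-1) * x ^ 3) (t := 1 + 1 * x ^ 1 + (-1) * x ^ 3 + 3 * x ^ 4 + 2 * x ^ 5 + (-3) * x ^ 6 + 2 * x ^ 7 + 1 * x ^ 8) (a := 1 + 1 * x ^ 1 + 1 * x ^ 2 + 1 * x ^ 3 + 1 * x ^ 4) (by rw [hk]; ring) 1 _ (h'.trans (dvd_of_eq ?_))
    ring
  replace h' : k ∣ (4 : ℤ) ^ 2 * ((-1 : ℤ) * (5 : ℤ) ^ 6 * (1 : ℤ) ^ 4 * (2 : ℤ) ^ 3 * (1 : ℤ) ^ 2 * (5 : ℤ) ^ 1 * (1 + 1 * x ^ 4) ^ 1 * (1 + 1 * x ^ 3 + 1 * x ^ 6) ^ 1 * (1 + (-1) * x ^ 2 + 1 * x ^ 4) ^ 1) := by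
    refine peel (s := (-1)) (t := 3 + 3 * x ^ 1 + 1 * x ^ 2 + (-1) * x ^ 3 + (-1) * x ^ 4 + 1 * x ^ 5 + 2 * x ^ 6 + 1 * x ^ 7) (a := 1 + (-1) * x ^ 1 + 1 * x ^ 2) (by rw [hk]; ring) 2 _ (h'.trans (dvd_of_eq ?_))
    ring
  replace h' : k ∣ (1 : ℤ) ^ 1 * ((-1 : ℤ) * (5 : ℤ) ^ 6 * (1 : ℤ) ^ 4 * (2 : ℤ) ^ 3 * (1 : ℤ) ^ 2 * (5 : ℤ) ^ 1 * (4 : ℤ) ^ 2 * (1 + 1 * x ^ 3 + 1 * x ^ 6) ^ 1 * (1 + (-1) * x ^ 2 + 1 * x ^ 4) ^ 1) := by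
    refine peel (s := (-1) + 1 * x ^ 1 + (-1) * x ^ 2) (t := 1 * x ^ 1 + 1 * x ^ 4 + 1 * x ^ 7) (a := 1 + 1 * x ^ 4) (by rw [hk]; ring) 1 _ (h'.trans (dvd_of_eq ?_))
    ring
  replace h' : k ∣ (1 : ℤ) ^ 1 * ((-1 : ℤ) * (5 : ℤ) ^ 6 * (1 : ℤ) ^ 4 * (2 : ℤ) ^ 3 * (1 : ℤ) ^ 2 * (5 : ℤ) ^ 1 * (4 : ℤ) ^ 2 * (1 : ℤ) ^ 1 * (1 + (-1) * x ^ 2 + 1 * x ^ 4) ^ 1) := by
    refine peel (s := (-1) + 1 * x ^ 1 + (-1) * x ^ 2) (t := 1 * x ^ 1 + 1 * x ^ 5) (a := 1 + 1 * x ^ 3 + 1 * x ^ 6) (by rw [hk]; ring) 1 _ (h'.trans (dvd_of_eq ?_))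
    ring
  replace h' : k ∣ (2 : ℤ) ^ 1 * ((-1 : ℤ) * (5 : ℤ) ^ 6 * (1 : ℤ) ^ 4 * (2 : ℤ) ^ 3 * (1 : ℤ) ^ 2 * (5 : ℤ) ^ 1 * (4 : ℤ) ^ 2 * (1 : ℤ) ^ 1 * (1 : ℤ) ^ 1) := by
    refine peel (s := (-1) + 1 * x ^ 1 + (-1) * x ^ 2) (t := 1 + 1 * x ^ 1 + 1 * x ^ 2 + 1 * x ^ 3 + 1 * x ^ 4 + 1 * x ^ 5 + 1 * x ^ 7) (a := 1 + (-1) * x ^ 2 + 1 * x ^ 4) (by rw [hk]; ring) 1 _ (h'.trans (dvd_of_eq ?_))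
    ring
  have hpos : (0 : ℤ) < k ∧ (20000000 : ℤ) < k := by
    obtain ⟨w, hw⟩ : ∃ w : ℕ, q = w + 195 := ⟨q - 195, by omega⟩
    have e1 : 1 * k = x ^ 9 + (2090628900779366024 + 85769386433652090 * (w : ℤ) ^ 1 + 1539450469814986 * (w : ℤ) ^ 2 + 15789235206031 * (w : ℤ) ^ 3 + 101213044726 * (w : ℤ) ^ 4 + 415233001 * (w : ℤ) ^ 5 + 1064700 * (w : ℤ) ^ 6 + 1560 * (w : ℤ) ^ 7 + 1 * (w : ℤ) ^ 8) := by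
      rw [hk, hx, hw]; push_cast; ring
    have e2 : (195 : ℤ) ^ 9 ≤ x ^ 9 := pow_le_pow_left₀ (by norm_num) (by rw [hx]; exact_mod_cast hq0) _
    have e3 : (0 : ℤ) ≤ 2090628900779366024 + 85769386433652090 * (w : ℤ) ^ 1 + 1539450469814986 * (w : ℤ) ^ 2 + 15789235206031 * (w : ℤ) ^ 3 + 101213044726 * (w : ℤ) ^ 4 + 415233001 * (w : ℤ) ^ 5 + 1064700 * (w : ℤ) ^ 6 + 1560 * (w : ℤ) ^ 7 + 1 * (w : ℤ) ^ 8 := by positivity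
    norm_num at e2
    constructor <;> linarith
  have := Int.le_of_dvd (by norm_num) (dvd_abs _ _ |>.2 h')
  norm_num at this
  linarith [hpos.1, hpos.2]

theorem not_dvd_2 {q : ℕ} (hq : IsPrimePow q) (hq0 : 195 ≤ q) : ¬ (bnd q - 2) ∣ ord' q := by
  intro h
  have hle : 2 ≤ bnd q := by
    have h1 : 1 ≤ (q ^ 6 + q ^ 3 + 1) * (q ^ 4 + 1) := Nat.one_le_iff_ne_zero.2 (by positivity)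
    calc 2 ≤ q * 1 := by omega
      _ ≤ _ := by rw [bnd, mul_assoc]; exact Nat.mul_le_mul_left _ h1
  have h' : ((bnd q - 2 : ℕ) : ℤ) ∣ (ord' q : ℤ) := Int.natCast_dvd_natCast.2 h
  rw [Nat.cast_sub hle, ord'_cast (by omega)] at h'
  simp only [bnd, Nat.cast_mul, Nat.cast_add, Nat.cast_pow, Nat.cast_one, Nat.cast_ofNat] at h'
  set x : ℤ := (q : ℤ) with hx
  set k : ℤ := (-2) + 1 * x ^ 1 + 2 * x ^ 2 + (-1) * x ^ 3 + (-1) * x ^ 4 + 2 * x ^ 5 + 1 * x ^ 6 + (-1) * x ^ 7 + 1 * x ^ 9 with hk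
  replace h' : k ∣ x ^ 36 * (((-1) + 1 * x ^ 1) ^ 6 * (1 + 1 * x ^ 1) ^ 4 * (1 + 1 * x ^ 1 + 1 * x ^ 2) ^ 3 * (1 + 1 * x ^ 2) ^ 2 * (1 + 1 * x ^ 1 + 1 * x ^ 2 + 1 * x ^ 3 + 1 * x ^ 4) ^ 1 * (1 + (-1) * x ^ 1 + 1 * x ^ 2) ^ 2 * (1 + 1 * x ^ 4) ^ 1 * (1 + 1 * x ^ 3 + 1 * x ^ 6) ^ 1 * (1 + (-1) * x ^ 2 + 1 * x ^ 4) ^ 1) := by
    refine dvd_trans ⟨1 + 1 * x ^ 2, ?_⟩ h'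
    rw [hk]; ring
  replace h' := peel_prime_pow hq (r := 1 + 2 * x ^ 1 + (-1) * x ^ 2 + (-1) * x ^ 3 + 2 * x ^ 4 + 1 * x ^ 5 + (-1) * x ^ 6 + 1 * x ^ 8) (c := -2) (by rw [hk]; ring) (by norm_num) (by norm_num; omega) h'
  simp only [← mul_assoc] at h'
  replace h' : k ∣ (2 : ℤ) ^ 6 * ((-2 : ℤ) * (1 + 1 * x ^ 1) ^ 4 * (1 + 1 * x ^ 1 + 1 * x ^ 2) ^ 3 * (1 + 1 * x ^ 2) ^ 2 * (1 + 1 * x ^ 1 + 1 * x ^ 2 + 1 * x ^ 3 + 1 * x ^ 4) ^ 1 * (1 + (-1) * x ^ 1 + 1 * x ^ 2) ^ 2 * (1 + 1 * x ^ 4) ^ 1 * (1 + 1 * x ^ 3 + 1 * x ^ 6) ^ 1 * (1 + (-1) * x ^ 2 + 1 * x ^ 4) ^ 1) := by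
    refine peel (s := 1) (t := (-4) + (-3) * x ^ 1 + (-1) * x ^ 2 + (-2) * x ^ 3 + (-3) * x ^ 4 + (-1) * x ^ 5 + (-1) * x ^ 7 + (-1) * x ^ 8) (a := (-1) + 1 * x ^ 1) (by rw [hk]; ring) 6 _ (h'.trans (dvd_of_eq ?_))
    ring
  replace h' : k ∣ (2 : ℤ) ^ 4 * ((-2 : ℤ) * (2 : ℤ) ^ 6 * (1 + 1 * x ^ 1 + 1 * x ^ 2) ^ 3 * (1 + 1 * x ^ 2) ^ 2 * (1 + 1 * x ^ 1 + 1 * x ^ 2 + 1 * x ^ 3 + 1 * x ^ 4) ^ 1 * (1 + (-1) * x ^ 1 + 1 * x ^ 2) ^ 2 * (1 + 1 * x ^ 4) ^ 1 * (1 + 1 * x ^ 3 + 1 * x ^ 6) ^ 1 * (1 + (-1) * x ^ 2 + 1 * x ^ 4) ^ 1) := by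
    refine peel (s := (-1)) (t := 1 * x ^ 1 + 1 * x ^ 2 + (-2) * x ^ 3 + 1 * x ^ 4 + 1 * x ^ 5 + (-1) * x ^ 7 + 1 * x ^ 8) (a := 1 + 1 * x ^ 1) (by rw [hk]; ring) 4 _ (h'.trans (dvd_of_eq ?_))
    ring
  replace h' : k ∣ (5 : ℤ) ^ 3 * ((-2 : ℤ) * (2 : ℤ) ^ 6 * (2 : ℤ) ^ 4 * (1 + 1 * x ^ 2) ^ 2 * (1 + 1 * x ^ 1 + 1 * x ^ 2 + 1 * x ^ 3 + 1 * x ^ 4) ^ 1 * (1 + (-1) * x ^ 1 + 1 * x ^ 2) ^ 2 * (1 + 1 * x ^ 4) ^ 1 * (1 + 1 * x ^ 3 + 1 * x ^ 6) ^ 1 * (1 + (-1) * x ^ 2 + 1 * x ^ 4) ^ 1) := by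
    refine peel (s := 1 * x ^ 1) (t := 5 + (-3) * x ^ 1 + (-3) * x ^ 2 + 4 * x ^ 3 + (-3) * x ^ 5 + 1 * x ^ 6 + 1 * x ^ 7 + (-1) * x ^ 8) (a := 1 + 1 * x ^ 1 + 1 * x ^ 2) (by rw [hk]; ring) 3 _ (h'.trans (dvd_of_eq ?_))
    ring
  replace h' : k ∣ (12 : ℤ) ^ 2 * ((-2 : ℤ) * (2 : ℤ) ^ 6 * (2 : ℤ) ^ 4 * (5 : ℤ) ^ 3 * (1 + 1 * x ^ 1 + 1 * x ^ 2 + 1 * x ^ 3 + 1 * x ^ 4) ^ 1 * (1 + (-1) * x ^ 1 + 1 * x ^ 2) ^ 2 * (1 + 1 * x ^ 4) ^ 1 * (1 + 1 * x ^ 3 + 1 * x ^ 6) ^ 1 * (1 + (-1) * x ^ 2 + 1 * x ^ 4) ^ 1) := by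
    refine peel (s := (-1) + (-1) * x ^ 1) (t := 10 + (-1) * x ^ 1 + (-7) * x ^ 2 + 2 * x ^ 3 + 5 * x ^ 4 + (-1) * x ^ 5 + (-2) * x ^ 6 + 1 * x ^ 7 + 1 * x ^ 8) (a := 1 + 1 * x ^ 2) (by rw [hk]; ring) 2 _ (h'.trans (dvd_of_eq ?_))
    ring
  replace h' : k ∣ (31 : ℤ) ^ 1 * ((-2 : ℤ) * (2 : ℤ) ^ 6 * (2 : ℤ) ^ 4 * (5 : ℤ) ^ 3 * (12 : ℤ) ^ 2 * (1 + (-1) * x ^ 1 + 1 * x ^ 2) ^ 2 * (1 + 1 * x ^ 4) ^ 1 * (1 + 1 * x ^ 3 + 1 * x ^ 6) ^ 1 * (1 + (-1) * x ^ 2 + 1 * x ^ 4) ^ 1) := by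
    refine peel (s := (-13) + (-4) * x ^ 1 + (-15) * x ^ 2 + (-5) * x ^ 3) (t := 5 + (-5) * x ^ 2 + 18 * x ^ 4 + 4 * x ^ 5 + (-16) * x ^ 6 + 10 * x ^ 7 + 5 * x ^ 8) (a := 1 + 1 * x ^ 1 + 1 * x ^ 2 + 1 * x ^ 3 + 1 * x ^ 4) (by rw [hk]; ring) 1 _ (h'.trans (dvd_of_eq ?_))
    ring
  replace h' : k ∣ (1 : ℤ) ^ 2 * ((-2 : ℤ) * (2 : ℤ) ^ 6 * (2 : ℤ) ^ 4 * (5 : ℤ) ^ 3 * (12 : ℤ) ^ 2 * (31 : ℤ) ^ 1 * (1 + 1 * x ^ 4) ^ 1 * (1 + 1 * x ^ 3 + 1 * x ^ 6) ^ 1 * (1 + (-1) * x ^ 2 + 1 * x ^ 4) ^ 1) := by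
    refine peel (s := (-1) * x ^ 1) (t := 1 + (-1) * x ^ 1 + (-1) * x ^ 2 + 2 * x ^ 3 + 2 * x ^ 4 + (-1) * x ^ 5 + (-1) * x ^ 6 + 1 * x ^ 7 + 1 * x ^ 8) (a := 1 + (-1) * x ^ 1 + 1 * x ^ 2) (by rw [hk]; ring) 2 _ (h'.trans (dvd_of_eq ?_))
    ring
  replace h' : k ∣ (2 : ℤ) ^ 1 * ((-2 : ℤ) * (2 : ℤ) ^ 6 * (2 : ℤ) ^ 4 * (5 : ℤ) ^ 3 * (12 : ℤ) ^ 2 * (31 : ℤ) ^ 1 * (1 : ℤ) ^ 2 * (1 + 1 * x ^ 3 + 1 * x ^ 6) ^ 1 * (1 + (-1) * x ^ 2 + 1 * x ^ 4) ^ 1) := by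
    refine peel (s := (-1) + (-1) * x ^ 2) (t := 1 * x ^ 1 + 1 * x ^ 4 + 1 * x ^ 7) (a := 1 + 1 * x ^ 4) (by rw [hk]; ring) 1 _ (h'.trans (dvd_of_eq ?_))
    ring
  replace h' : k ∣ (2 : ℤ) ^ 1 * ((-2 : ℤ) * (2 : ℤ) ^ 6 * (2 : ℤ) ^ 4 * (5 : ℤ) ^ 3 * (12 : ℤ) ^ 2 * (31 : ℤ) ^ 1 * (1 : ℤ) ^ 2 * (2 : ℤ) ^ 1 * (1 + (-1) * x ^ 2 + 1 * x ^ 4) ^ 1) := by
    refine peel (s := (-1) + (-1) * x ^ 2) (t := 1 * x ^ 1 + 1 * x ^ 5) (a := 1 + 1 * x ^ 3 + 1 * x ^ 6) (by rw [hk]; ring) 1 _ (h'.trans (dvd_of_eq ?_))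
    ring
  replace h' : k ∣ (3 : ℤ) ^ 1 * ((-2 : ℤ) * (2 : ℤ) ^ 6 * (2 : ℤ) ^ 4 * (5 : ℤ) ^ 3 * (12 : ℤ) ^ 2 * (31 : ℤ) ^ 1 * (1 : ℤ) ^ 2 * (2 : ℤ) ^ 1 * (2 : ℤ) ^ 1) := by
    refine peel (s := (-1) + (-1) * x ^ 2) (t := 1 + 1 * x ^ 1 + 1 * x ^ 2 + 1 * x ^ 3 + 1 * x ^ 4 + 1 * x ^ 5 + 1 * x ^ 7) (a := 1 + (-1) * x ^ 2 + 1 * x ^ 4) (by rw [hk]; ring) 1 _ (h'.trans (dvd_of_eq ?_))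
    ring
  have hpos : (0 : ℤ) < k ∧ (13713408000 : ℤ) < k := by
    obtain ⟨w, hw⟩ : ∃ w : ℕ, q = w + 195 := ⟨q - 195, by omega⟩
    have e1 : 2 * k = x ^ 9 + (407651249129046118361 + 18814891243446726287 * (w : ℤ) ^ 1 + 385950408031725034 * (w : ℤ) ^ 2 + 4618250271383188 * (w : ℤ) ^ 3 + 35525260459648 * (w : ℤ) ^ 4 + 182181884044 * (w : ℤ) ^ 5 + 622846772 * (w : ℤ) ^ 6 + 1368898 * (w : ℤ) ^ 7 + 1755 * (w : ℤ) ^ 8 + 1 * (w : ℤ) ^ 9) := by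
      rw [hk, hx, hw]; push_cast; ring
    have e2 : (195 : ℤ) ^ 9 ≤ x ^ 9 := pow_le_pow_left₀ (by norm_num) (by rw [hx]; exact_mod_cast hq0) _
    have e3 : (0 : ℤ) ≤ 407651249129046118361 + 18814891243446726287 * (w : ℤ) ^ 1 + 385950408031725034 * (w : ℤ) ^ 2 + 4618250271383188 * (w : ℤ) ^ 3 + 35525260459648 * (w : ℤ) ^ 4 + 182181884044 * (w : ℤ) ^ 5 + 622846772 * (w : ℤ) ^ 6 + 1368898 * (w : ℤ) ^ 7 + 1755 * (w : ℤ) ^ 8 + 1 * (w : ℤ) ^ 9 := by positivity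
    norm_num at e2
    constructor <;> linarith
  have := Int.le_of_dvd (by norm_num) (dvd_abs _ _ |>.2 h')
  norm_num at this
  linarith [hpos.1, hpos.2]

theorem not_dvd_3 {q : ℕ} (hq : IsPrimePow q) (hq0 : 195 ≤ q) : ¬ (bnd q - 3) ∣ ord' q := by
  intro h
  have hle : 3 ≤ bnd q := by
    have h1 : 1 ≤ (q ^ 6 + q ^ 3 + 1) * (q ^ 4 + 1) := Nat.one_le_iff_ne_zero.2 (by positivity)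
    calc 3 ≤ q * 1 := by omega
      _ ≤ _ := by rw [bnd, mul_assoc]; exact Nat.mul_le_mul_left _ h1
  have h' : ((bnd q - 3 : ℕ) : ℤ) ∣ (ord' q : ℤ) := Int.natCast_dvd_natCast.2 h
  rw [Nat.cast_sub hle, ord'_cast (by omega)] at h'
  simp only [bnd, Nat.cast_mul, Nat.cast_add, Nat.cast_pow, Nat.cast_one, Nat.cast_ofNat] at h'
  set x : ℤ := (q : ℤ) with hx
  set k : ℤ := (-3) + 1 * x ^ 1 + 1 * x ^ 4 + 1 * x ^ 5 + 1 * x ^ 7 + 1 * x ^ 8 + 1 * x ^ 11 with hk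
  replace h' : k ∣ x ^ 36 * (((-1) + 1 * x ^ 1) ^ 6 * (1 + 1 * x ^ 1) ^ 4 * (1 + 1 * x ^ 1 + 1 * x ^ 2) ^ 3 * (1 + 1 * x ^ 2) ^ 2 * (1 + 1 * x ^ 1 + 1 * x ^ 2 + 1 * x ^ 3 + 1 * x ^ 4) ^ 1 * (1 + (-1) * x ^ 1 + 1 * x ^ 2) ^ 2 * (1 + 1 * x ^ 4) ^ 1 * (1 + 1 * x ^ 3 + 1 * x ^ 6) ^ 1 * (1 + (-1) * x ^ 2 + 1 * x ^ 4) ^ 1) := by
    refine dvd_trans ⟨1, ?_⟩ h'
    rw [hk]; ring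
  replace h' := peel_prime_pow hq (r := 1 + 1 * x ^ 3 + 1 * x ^ 4 + 1 * x ^ 6 + 1 * x ^ 7 + 1 * x ^ 10) (c := -3) (by rw [hk]; ring) (by norm_num) (by norm_num; omega) h'
  simp only [← mul_assoc] at h'
  replace h' : k ∣ (3 : ℤ) ^ 6 * ((-3 : ℤ) * (1 + 1 * x ^ 1) ^ 4 * (1 + 1 * x ^ 1 + 1 * x ^ 2) ^ 3 * (1 + 1 * x ^ 2) ^ 2 * (1 + 1 * x ^ 1 + 1 * x ^ 2 + 1 * x ^ 3 + 1 * x ^ 4) ^ 1 * (1 + (-1) * x ^ 1 + 1 * x ^ 2) ^ 2 * (1 + 1 * x ^ 4) ^ 1 * (1 + 1 * x ^ 3 + 1 * x ^ 6) ^ 1 * (1 + (-1) * x ^ 2 + 1 * x ^ 4) ^ 1) := by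
    refine peel (s := 1) (t := (-6) + (-5) * x ^ 1 + (-5) * x ^ 2 + (-5) * x ^ 3 + (-4) * x ^ 4 + (-3) * x ^ 5 + (-3) * x ^ 6 + (-2) * x ^ 7 + (-1) * x ^ 8 + (-1) * x ^ 9 + (-1) * x ^ 10) (a := (-1) + 1 * x ^ 1) (by rw [hk]; ring) 6 _ (h'.trans (dvd_of_eq ?_))
    ring
  replace h' : k ∣ (5 : ℤ) ^ 4 * ((-3 : ℤ) * (3 : ℤ) ^ 6 * (1 + 1 * x ^ 1 + 1 * x ^ 2) ^ 3 * (1 + 1 * x ^ 2) ^ 2 * (1 + 1 * x ^ 1 + 1 * x ^ 2 + 1 * x ^ 3 + 1 * x ^ 4) ^ 1 * (1 + (-1) * x ^ 1 + 1 * x ^ 2) ^ 2 * (1 + 1 * x ^ 4) ^ 1 * (1 + 1 * x ^ 3 + 1 * x ^ 6) ^ 1 * (1 + (-1) * x ^ 2 + 1 * x ^ 4) ^ 1) := by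
    refine peel (s := (-1)) (t := 2 + (-1) * x ^ 1 + 1 * x ^ 2 + (-1) * x ^ 3 + 2 * x ^ 4 + (-1) * x ^ 5 + 1 * x ^ 6 + 1 * x ^ 8 + (-1) * x ^ 9 + 1 * x ^ 10) (a := 1 + 1 * x ^ 1) (by rw [hk]; ring) 4 _ (h'.trans (dvd_of_eq ?_))
    ring
  replace h' : k ∣ (6 : ℤ) ^ 3 * ((-3 : ℤ) * (3 : ℤ) ^ 6 * (5 : ℤ) ^ 4 * (1 + 1 * x ^ 2) ^ 2 * (1 + 1 * x ^ 1 + 1 * x ^ 2 + 1 * x ^ 3 + 1 * x ^ 4) ^ 1 * (1 + (-1) * x ^ 1 + 1 * x ^ 2) ^ 2 * (1 + 1 * x ^ 4) ^ 1 * (1 + 1 * x ^ 3 + 1 * x ^ 6) ^ 1 * (1 + (-1) * x ^ 2 + 1 * x ^ 4) ^ 1) := by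
    refine peel (s := (-1)) (t := 3 + (-2) * x ^ 1 + (-1) * x ^ 2 + 3 * x ^ 3 + (-1) * x ^ 4 + (-1) * x ^ 5 + 2 * x ^ 6 + (-1) * x ^ 8 + 1 * x ^ 9) (a := 1 + 1 * x ^ 1 + 1 * x ^ 2) (by rw [hk]; ring) 3 _ (h'.trans (dvd_of_eq ?_))
    ring
  replace h' : k ∣ (1 : ℤ) ^ 2 * ((-3 : ℤ) * (3 : ℤ) ^ 6 * (5 : ℤ) ^ 4 * (6 : ℤ) ^ 3 * (1 + 1 * x ^ 1 + 1 * x ^ 2 + 1 * x ^ 3 + 1 * x ^ 4) ^ 1 * (1 + (-1) * x ^ 1 + 1 * x ^ 2) ^ 2 * (1 + 1 * x ^ 4) ^ 1 * (1 + 1 * x ^ 3 + 1 * x ^ 6) ^ 1 * (1 + (-1) * x ^ 2 + 1 * x ^ 4) ^ 1) := by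
    refine peel (s := (-1)) (t := (-2) + 1 * x ^ 1 + 2 * x ^ 2 + (-1) * x ^ 3 + (-1) * x ^ 4 + 2 * x ^ 5 + 1 * x ^ 6 + (-1) * x ^ 7 + 1 * x ^ 9) (a := 1 + 1 * x ^ 2) (by rw [hk]; ring) 2 _ (h'.trans (dvd_of_eq ?_))
    ring
  replace h' : k ∣ (121 : ℤ) ^ 1 * ((-3 : ℤ) * (3 : ℤ) ^ 6 * (5 : ℤ) ^ 4 * (6 : ℤ) ^ 3 * (1 : ℤ) ^ 2 * (1 + (-1) * x ^ 1 + 1 * x ^ 2) ^ 2 * (1 + 1 * x ^ 4) ^ 1 * (1 + 1 * x ^ 3 + 1 * x ^ 6) ^ 1 * (1 + (-1) * x ^ 2 + 1 * x ^ 4) ^ 1) := by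
    refine peel (s := (-40) + (-13) * x ^ 1 + (-4) * x ^ 2 + (-1) * x ^ 3) (t := 1 + 40 * x ^ 4 + 13 * x ^ 5 + (-36) * x ^ 6 + 28 * x ^ 7 + 9 * x ^ 8 + 3 * x ^ 9 + 1 * x ^ 10) (a := 1 + 1 * x ^ 1 + 1 * x ^ 2 + 1 * x ^ 3 + 1 * x ^ 4) (by rw [hk]; ring) 1 _ (h'.trans (dvd_of_eq ?_))
    ring
  replace h' : k ∣ (2 : ℤ) ^ 2 * ((-3 : ℤ) * (3 : ℤ) ^ 6 * (5 : ℤ) ^ 4 * (6 : ℤ) ^ 3 * (1 : ℤ) ^ 2 * (121 : ℤ) ^ 1 * (1 + 1 * x ^ 4) ^ 1 * (1 + 1 * x ^ 3 + 1 * x ^ 6) ^ 1 * (1 + (-1) * x ^ 2 + 1 * x ^ 4) ^ 1) := by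
    refine peel (s := (-1)) (t := (-1) + 1 * x ^ 2 + 1 * x ^ 3 + 1 * x ^ 4 + 1 * x ^ 5 + 1 * x ^ 8 + 1 * x ^ 9) (a := 1 + (-1) * x ^ 1 + 1 * x ^ 2) (by rw [hk]; ring) 2 _ (h'.trans (dvd_of_eq ?_))
    ring
  replace h' : k ∣ (3 : ℤ) ^ 1 * ((-3 : ℤ) * (3 : ℤ) ^ 6 * (5 : ℤ) ^ 4 * (6 : ℤ) ^ 3 * (1 : ℤ) ^ 2 * (121 : ℤ) ^ 1 * (2 : ℤ) ^ 2 * (1 + 1 * x ^ 3 + 1 * x ^ 6) ^ 1 * (1 + (-1) * x ^ 2 + 1 * x ^ 4) ^ 1) := by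
    refine peel (s := (-1)) (t := 1 * x ^ 1 + 1 * x ^ 4 + 1 * x ^ 7) (a := 1 + 1 * x ^ 4) (by rw [hk]; ring) 1 _ (h'.trans (dvd_of_eq ?_))
    ring
  replace h' : k ∣ (3 : ℤ) ^ 1 * ((-3 : ℤ) * (3 : ℤ) ^ 6 * (5 : ℤ) ^ 4 * (6 : ℤ) ^ 3 * (1 : ℤ) ^ 2 * (121 : ℤ) ^ 1 * (2 : ℤ) ^ 2 * (3 : ℤ) ^ 1 * (1 + (-1) * x ^ 2 + 1 * x ^ 4) ^ 1) := by
    refine peel (s := (-1)) (t := 1 * x ^ 1 + 1 * x ^ 5) (a := 1 + 1 * x ^ 3 + 1 * x ^ 6) (by rw [hk]; ring) 1 _ (h'.trans (dvd_of_eq ?_))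
    ring
  replace h' : k ∣ (4 : ℤ) ^ 1 * ((-3 : ℤ) * (3 : ℤ) ^ 6 * (5 : ℤ) ^ 4 * (6 : ℤ) ^ 3 * (1 : ℤ) ^ 2 * (121 : ℤ) ^ 1 * (2 : ℤ) ^ 2 * (3 : ℤ) ^ 1 * (3 : ℤ) ^ 1) := by
    refine peel (s := (-1)) (t := 1 + 1 * x ^ 1 + 1 * x ^ 2 + 1 * x ^ 3 + 1 * x ^ 4 + 1 * x ^ 5 + 1 * x ^ 7) (a := 1 + (-1) * x ^ 2 + 1 * x ^ 4) (by rw [hk]; ring) 1 _ (h'.trans (dvd_of_eq ?_))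
    ring
  have hpos : (0 : ℤ) < k ∧ (5144348880000 : ℤ) < k := by
    obtain ⟨w, hw⟩ : ∃ w : ℕ, q = w + 195 := ⟨q - 195, by omega⟩
    have e1 : 1 * k = x ^ 11 + (2101350073168710192 + 86154249032397001 * (w : ℤ) ^ 1 + 1545371432873775 * (w : ℤ) ^ 2 + 15839841727905 * (w : ℤ) ^ 3 + 101472565351 * (w : ℤ) ^ 4 + 416031526 * (w : ℤ) ^ 5 + 1066065 * (w : ℤ) ^ 6 + 1561 * (w : ℤ) ^ 7 + 1 * (w : ℤ) ^ 8) := by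
      rw [hk, hx, hw]; push_cast; ring
    have e2 : (195 : ℤ) ^ 11 ≤ x ^ 11 := pow_le_pow_left₀ (by norm_num) (by rw [hx]; exact_mod_cast hq0) _
    have e3 : (0 : ℤ) ≤ 2101350073168710192 + 86154249032397001 * (w : ℤ) ^ 1 + 1545371432873775 * (w : ℤ) ^ 2 + 15839841727905 * (w : ℤ) ^ 3 + 101472565351 * (w : ℤ) ^ 4 + 416031526 * (w : ℤ) ^ 5 + 1066065 * (w : ℤ) ^ 6 + 1561 * (w : ℤ) ^ 7 + 1 * (w : ℤ) ^ 8 := by positivity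
    norm_num at e2
    constructor <;> linarith
  have := Int.le_of_dvd (by norm_num) (dvd_abs _ _ |>.2 h')
  norm_num at this
  linarith [hpos.1, hpos.2]

theorem not_dvd_4 {q : ℕ} (hq : IsPrimePow q) (hq0 : 195 ≤ q) : ¬ (bnd q - 4) ∣ ord' q := by
  intro h
  have hle : 4 ≤ bnd q := by
    have h1 : 1 ≤ (q ^ 6 + q ^ 3 + 1) * (q ^ 4 + 1) := Nat.one_le_iff_ne_zero.2 (by positivity)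
    calc 4 ≤ q * 1 := by omega
      _ ≤ _ := by rw [bnd, mul_assoc]; exact Nat.mul_le_mul_left _ h1
  have h' : ((bnd q - 4 : ℕ) : ℤ) ∣ (ord' q : ℤ) := Int.natCast_dvd_natCast.2 h
  rw [Nat.cast_sub hle, ord'_cast (by omega)] at h'
  simp only [bnd, Nat.cast_mul, Nat.cast_add, Nat.cast_pow, Nat.cast_one, Nat.cast_ofNat] at h'
  set x : ℤ := (q : ℤ) with hx
  set k : ℤ := (-4) + 1 * x ^ 1 + 1 * x ^ 4 + 1 * x ^ 5 + 1 * x ^ 7 + 1 * x ^ 8 + 1 * x ^ 11 with hk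
  replace h' : k ∣ x ^ 36 * (((-1) + 1 * x ^ 1) ^ 6 * (1 + 1 * x ^ 1) ^ 4 * (1 + 1 * x ^ 1 + 1 * x ^ 2) ^ 3 * (1 + 1 * x ^ 2) ^ 2 * (1 + 1 * x ^ 1 + 1 * x ^ 2 + 1 * x ^ 3 + 1 * x ^ 4) ^ 1 * (1 + (-1) * x ^ 1 + 1 * x ^ 2) ^ 2 * (1 + 1 * x ^ 4) ^ 1 * (1 + 1 * x ^ 3 + 1 * x ^ 6) ^ 1 * (1 + (-1) * x ^ 2 + 1 * x ^ 4) ^ 1) := by
    refine dvd_trans ⟨1, ?_⟩ h'
    rw [hk]; ring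
  replace h' := peel_prime_pow hq (r := 1 + 1 * x ^ 3 + 1 * x ^ 4 + 1 * x ^ 6 + 1 * x ^ 7 + 1 * x ^ 10) (c := -4) (by rw [hk]; ring) (by norm_num) (by norm_num; omega) h'
  simp only [← mul_assoc] at h'
  replace h' : k ∣ (2 : ℤ) ^ 6 * ((-4 : ℤ) * (1 + 1 * x ^ 1) ^ 4 * (1 + 1 * x ^ 1 + 1 * x ^ 2) ^ 3 * (1 + 1 * x ^ 2) ^ 2 * (1 + 1 * x ^ 1 + 1 * x ^ 2 + 1 * x ^ 3 + 1 * x ^ 4) ^ 1 * (1 + (-1) * x ^ 1 + 1 * x ^ 2) ^ 2 * (1 + 1 * x ^ 4) ^ 1 * (1 + 1 * x ^ 3 + 1 * x ^ 6) ^ 1 * (1 + (-1) * x ^ 2 + 1 * x ^ 4) ^ 1) := by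
    refine peel (s := 1) (t := (-6) + (-5) * x ^ 1 + (-5) * x ^ 2 + (-5) * x ^ 3 + (-4) * x ^ 4 + (-3) * x ^ 5 + (-3) * x ^ 6 + (-2) * x ^ 7 + (-1) * x ^ 8 + (-1) * x ^ 9 + (-1) * x ^ 10) (a := (-1) + 1 * x ^ 1) (by rw [hk]; ring) 6 _ (h'.trans (dvd_of_eq ?_))
    ring
  replace h' : k ∣ (6 : ℤ) ^ 4 * ((-4 : ℤ) * (2 : ℤ) ^ 6 * (1 + 1 * x ^ 1 + 1 * x ^ 2) ^ 3 * (1 + 1 * x ^ 2) ^ 2 * (1 + 1 * x ^ 1 + 1 * x ^ 2 + 1 * x ^ 3 + 1 * x ^ 4) ^ 1 * (1 + (-1) * x ^ 1 + 1 * x ^ 2) ^ 2 * (1 + 1 * x ^ 4) ^ 1 * (1 + 1 * x ^ 3 + 1 * x ^ 6) ^ 1 * (1 + (-1) * x ^ 2 + 1 * x ^ 4) ^ 1) := by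
    refine peel (s := (-1)) (t := 2 + (-1) * x ^ 1 + 1 * x ^ 2 + (-1) * x ^ 3 + 2 * x ^ 4 + (-1) * x ^ 5 + 1 * x ^ 6 + 1 * x ^ 8 + (-1) * x ^ 9 + 1 * x ^ 10) (a := 1 + 1 * x ^ 1) (by rw [hk]; ring) 4 _ (h'.trans (dvd_of_eq ?_))
    ring
  replace h' : k ∣ (7 : ℤ) ^ 3 * ((-4 : ℤ) * (2 : ℤ) ^ 6 * (6 : ℤ) ^ 4 * (1 + 1 * x ^ 2) ^ 2 * (1 + 1 * x ^ 1 + 1 * x ^ 2 + 1 * x ^ 3 + 1 * x ^ 4) ^ 1 * (1 + (-1) * x ^ 1 + 1 * x ^ 2) ^ 2 * (1 + 1 * x ^ 4) ^ 1 * (1 + 1 * x ^ 3 + 1 * x ^ 6) ^ 1 * (1 + (-1) * x ^ 2 + 1 * x ^ 4) ^ 1) := by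
    refine peel (s := (-1)) (t := 3 + (-2) * x ^ 1 + (-1) * x ^ 2 + 3 * x ^ 3 + (-1) * x ^ 4 + (-1) * x ^ 5 + 2 * x ^ 6 + (-1) * x ^ 8 + 1 * x ^ 9) (a := 1 + 1 * x ^ 1 + 1 * x ^ 2) (by rw [hk]; ring) 3 _ (h'.trans (dvd_of_eq ?_))
    ring
  replace h' : k ∣ (2 : ℤ) ^ 2 * ((-4 : ℤ) * (2 : ℤ) ^ 6 * (6 : ℤ) ^ 4 * (7 : ℤ) ^ 3 * (1 + 1 * x ^ 1 + 1 * x ^ 2 + 1 * x ^ 3 + 1 * x ^ 4) ^ 1 * (1 + (-1) * x ^ 1 + 1 * x ^ 2) ^ 2 * (1 + 1 * x ^ 4) ^ 1 * (1 + 1 * x ^ 3 + 1 * x ^ 6) ^ 1 * (1 + (-1) * x ^ 2 + 1 * x ^ 4) ^ 1) := by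
    refine peel (s := (-1)) (t := (-2) + 1 * x ^ 1 + 2 * x ^ 2 + (-1) * x ^ 3 + (-1) * x ^ 4 + 2 * x ^ 5 + 1 * x ^ 6 + (-1) * x ^ 7 + 1 * x ^ 9) (a := 1 + 1 * x ^ 2) (by rw [hk]; ring) 2 _ (h'.trans (dvd_of_eq ?_))
    ring
  replace h' : k ∣ (341 : ℤ) ^ 1 * ((-4 : ℤ) * (2 : ℤ) ^ 6 * (6 : ℤ) ^ 4 * (7 : ℤ) ^ 3 * (2 : ℤ) ^ 2 * (1 + (-1) * x ^ 1 + 1 * x ^ 2) ^ 2 * (1 + 1 * x ^ 4) ^ 1 * (1 + 1 * x ^ 3 + 1 * x ^ 6) ^ 1 * (1 + (-1) * x ^ 2 + 1 * x ^ 4) ^ 1) := by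
    refine peel (s := (-85) + (-21) * x ^ 1 + (-5) * x ^ 2 + (-1) * x ^ 3) (t := 1 + 85 * x ^ 4 + 21 * x ^ 5 + (-80) * x ^ 6 + 65 * x ^ 7 + 16 * x ^ 8 + 4 * x ^ 9 + 1 * x ^ 10) (a := 1 + 1 * x ^ 1 + 1 * x ^ 2 + 1 * x ^ 3 + 1 * x ^ 4) (by rw [hk]; ring) 1 _ (h'.trans (dvd_of_eq ?_))
    ring
  replace h' : k ∣ (3 : ℤ) ^ 2 * ((-4 : ℤ) * (2 : ℤ) ^ 6 * (6 : ℤ) ^ 4 * (7 : ℤ) ^ 3 * (2 : ℤ) ^ 2 * (341 : ℤ) ^ 1 * (1 + 1 * x ^ 4) ^ 1 * (1 + 1 * x ^ 3 + 1 * x ^ 6) ^ 1 * (1 + (-1) * x ^ 2 + 1 * x ^ 4) ^ 1) := by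
    refine peel (s := (-1)) (t := (-1) + 1 * x ^ 2 + 1 * x ^ 3 + 1 * x ^ 4 + 1 * x ^ 5 + 1 * x ^ 8 + 1 * x ^ 9) (a := 1 + (-1) * x ^ 1 + 1 * x ^ 2) (by rw [hk]; ring) 2 _ (h'.trans (dvd_of_eq ?_))
    ring
  replace h' : k ∣ (4 : ℤ) ^ 1 * ((-4 : ℤ) * (2 : ℤ) ^ 6 * (6 : ℤ) ^ 4 * (7 : ℤ) ^ 3 * (2 : ℤ) ^ 2 * (341 : ℤ) ^ 1 * (3 : ℤ) ^ 2 * (1 + 1 * x ^ 3 + 1 * x ^ 6) ^ 1 * (1 + (-1) * x ^ 2 + 1 * x ^ 4) ^ 1) := by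
    refine peel (s := (-1)) (t := 1 * x ^ 1 + 1 * x ^ 4 + 1 * x ^ 7) (a := 1 + 1 * x ^ 4) (by rw [hk]; ring) 1 _ (h'.trans (dvd_of_eq ?_))
    ring
  replace h' : k ∣ (4 : ℤ) ^ 1 * ((-4 : ℤ) * (2 : ℤ) ^ 6 * (6 : ℤ) ^ 4 * (7 : ℤ) ^ 3 * (2 : ℤ) ^ 2 * (341 : ℤ) ^ 1 * (3 : ℤ) ^ 2 * (4 : ℤ) ^ 1 * (1 + (-1) * x ^ 2 + 1 * x ^ 4) ^ 1) := by
    refine peel (s := (-1)) (t := 1 * x ^ 1 + 1 * x ^ 5) (a := 1 + 1 * x ^ 3 + 1 * x ^ 6) (by rw [hk]; ring) 1 _ (h'.trans (dvd_of_eq ?_))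
    ring
  replace h' : k ∣ (5 : ℤ) ^ 1 * ((-4 : ℤ) * (2 : ℤ) ^ 6 * (6 : ℤ) ^ 4 * (7 : ℤ) ^ 3 * (2 : ℤ) ^ 2 * (341 : ℤ) ^ 1 * (3 : ℤ) ^ 2 * (4 : ℤ) ^ 1 * (4 : ℤ) ^ 1) := by
    refine peel (s := (-1)) (t := 1 + 1 * x ^ 1 + 1 * x ^ 2 + 1 * x ^ 3 + 1 * x ^ 4 + 1 * x ^ 5 + 1 * x ^ 7) (a := 1 + (-1) * x ^ 2 + 1 * x ^ 4) (by rw [hk]; ring) 1 _ (h'.trans (dvd_of_eq ?_))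
    ring
  have hpos : (0 : ℤ) < k ∧ (111759886909440 : ℤ) < k := by
    obtain ⟨w, hw⟩ : ∃ w : ℕ, q = w + 195 := ⟨q - 195, by omega⟩
    have e1 : 1 * k = x ^ 11 + (2101350073168710191 + 86154249032397001 * (w : ℤ) ^ 1 + 1545371432873775 * (w : ℤ) ^ 2 + 15839841727905 * (w : ℤ) ^ 3 + 101472565351 * (w : ℤ) ^ 4 + 416031526 * (w : ℤ) ^ 5 + 1066065 * (w : ℤ) ^ 6 + 1561 * (w : ℤ) ^ 7 + 1 * (w : ℤ) ^ 8) := by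
      rw [hk, hx, hw]; push_cast; ring
    have e2 : (195 : ℤ) ^ 11 ≤ x ^ 11 := pow_le_pow_left₀ (by norm_num) (by rw [hx]; exact_mod_cast hq0) _
    have e3 : (0 : ℤ) ≤ 2101350073168710191 + 86154249032397001 * (w : ℤ) ^ 1 + 1545371432873775 * (w : ℤ) ^ 2 + 15839841727905 * (w : ℤ) ^ 3 + 101472565351 * (w : ℤ) ^ 4 + 416031526 * (w : ℤ) ^ 5 + 1066065 * (w : ℤ) ^ 6 + 1561 * (w : ℤ) ^ 7 + 1 * (w : ℤ) ^ 8 := by positivity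
    norm_num at e2
    constructor <;> linarith
  have := Int.le_of_dvd (by norm_num) (dvd_abs _ _ |>.2 h')
  norm_num at this
  linarith [hpos.1, hpos.2]

theorem not_dvd_5 {q : ℕ} (hq : IsPrimePow q) (hq0 : 195 ≤ q) : ¬ (bnd q - 5) ∣ ord' q := by
  intro h
  have hle : 5 ≤ bnd q := by
    have h1 : 1 ≤ (q ^ 6 + q ^ 3 + 1) * (q ^ 4 + 1) := Nat.one_le_iff_ne_zero.2 (by positivity)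
    calc 5 ≤ q * 1 := by omega
      _ ≤ _ := by rw [bnd, mul_assoc]; exact Nat.mul_le_mul_left _ h1
  have h' : ((bnd q - 5 : ℕ) : ℤ) ∣ (ord' q : ℤ) := Int.natCast_dvd_natCast.2 h
  rw [Nat.cast_sub hle, ord'_cast (by omega)] at h'
  simp only [bnd, Nat.cast_mul, Nat.cast_add, Nat.cast_pow, Nat.cast_one, Nat.cast_ofNat] at h'
  set x : ℤ := (q : ℤ) with hx
  set k : ℤ := (-5) + 1 * x ^ 1 + 1 * x ^ 4 + 1 * x ^ 5 + 1 * x ^ 7 + 1 * x ^ 8 + 1 * x ^ 11 with hk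
  replace h' : k ∣ x ^ 36 * (((-1) + 1 * x ^ 1) ^ 6 * (1 + 1 * x ^ 1) ^ 4 * (1 + 1 * x ^ 1 + 1 * x ^ 2) ^ 3 * (1 + 1 * x ^ 2) ^ 2 * (1 + 1 * x ^ 1 + 1 * x ^ 2 + 1 * x ^ 3 + 1 * x ^ 4) ^ 1 * (1 + (-1) * x ^ 1 + 1 * x ^ 2) ^ 2 * (1 + 1 * x ^ 4) ^ 1 * (1 + 1 * x ^ 3 + 1 * x ^ 6) ^ 1 * (1 + (-1) * x ^ 2 + 1 * x ^ 4) ^ 1) := by
    refine dvd_trans ⟨1, ?_⟩ h'
    rw [hk]; ring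
  replace h' := peel_prime_pow hq (r := 1 + 1 * x ^ 3 + 1 * x ^ 4 + 1 * x ^ 6 + 1 * x ^ 7 + 1 * x ^ 10) (c := -5) (by rw [hk]; ring) (by norm_num) (by norm_num; omega) h'
  simp only [← mul_assoc] at h'
  replace h' : k ∣ (1 : ℤ) ^ 6 * ((-5 : ℤ) * (1 + 1 * x ^ 1) ^ 4 * (1 + 1 * x ^ 1 + 1 * x ^ 2) ^ 3 * (1 + 1 * x ^ 2) ^ 2 * (1 + 1 * x ^ 1 + 1 * x ^ 2 + 1 * x ^ 3 + 1 * x ^ 4) ^ 1 * (1 + (-1) * x ^ 1 + 1 * x ^ 2) ^ 2 * (1 + 1 * x ^ 4) ^ 1 * (1 + 1 * x ^ 3 + 1 * x ^ 6) ^ 1 * (1 + (-1) * x ^ 2 + 1 * x ^ 4) ^ 1) := by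
    refine peel (s := 1) (t := (-6) + (-5) * x ^ 1 + (-5) * x ^ 2 + (-5) * x ^ 3 + (-4) * x ^ 4 + (-3) * x ^ 5 + (-3) * x ^ 6 + (-2) * x ^ 7 + (-1) * x ^ 8 + (-1) * x ^ 9 + (-1) * x ^ 10) (a := (-1) + 1 * x ^ 1) (by rw [hk]; ring) 6 _ (h'.trans (dvd_of_eq ?_))
    ring
  replace h' : k ∣ (7 : ℤ) ^ 4 * ((-5 : ℤ) * (1 : ℤ) ^ 6 * (1 + 1 * x ^ 1 + 1 * x ^ 2) ^ 3 * (1 + 1 * x ^ 2) ^ 2 * (1 + 1 * x ^ 1 + 1 * x ^ 2 + 1 * x ^ 3 + 1 * x ^ 4) ^ 1 * (1 + (-1) * x ^ 1 + 1 * x ^ 2) ^ 2 * (1 + 1 * x ^ 4) ^ 1 * (1 + 1 * x ^ 3 + 1 * x ^ 6) ^ 1 * (1 + (-1) * x ^ 2 + 1 * x ^ 4) ^ 1) := by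
    refine peel (s := (-1)) (t := 2 + (-1) * x ^ 1 + 1 * x ^ 2 + (-1) * x ^ 3 + 2 * x ^ 4 + (-1) * x ^ 5 + 1 * x ^ 6 + 1 * x ^ 8 + (-1) * x ^ 9 + 1 * x ^ 10) (a := 1 + 1 * x ^ 1) (by rw [hk]; ring) 4 _ (h'.trans (dvd_of_eq ?_))
    ring
  replace h' : k ∣ (8 : ℤ) ^ 3 * ((-5 : ℤ) * (1 : ℤ) ^ 6 * (7 : ℤ) ^ 4 * (1 + 1 * x ^ 2) ^ 2 * (1 + 1 * x ^ 1 + 1 * x ^ 2 + 1 * x ^ 3 + 1 * x ^ 4) ^ 1 * (1 + (-1) * x ^ 1 + 1 * x ^ 2) ^ 2 * (1 + 1 * x ^ 4) ^ 1 * (1 + 1 * x ^ 3 + 1 * x ^ 6) ^ 1 * (1 + (-1) * x ^ 2 + 1 * x ^ 4) ^ 1) := by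
    refine peel (s := (-1)) (t := 3 + (-2) * x ^ 1 + (-1) * x ^ 2 + 3 * x ^ 3 + (-1) * x ^ 4 + (-1) * x ^ 5 + 2 * x ^ 6 + (-1) * x ^ 8 + 1 * x ^ 9) (a := 1 + 1 * x ^ 1 + 1 * x ^ 2) (by rw [hk]; ring) 3 _ (h'.trans (dvd_of_eq ?_))
    ring
  replace h' : k ∣ (3 : ℤ) ^ 2 * ((-5 : ℤ) * (1 : ℤ) ^ 6 * (7 : ℤ) ^ 4 * (8 : ℤ) ^ 3 * (1 + 1 * x ^ 1 + 1 * x ^ 2 + 1 * x ^ 3 + 1 * x ^ 4) ^ 1 * (1 + (-1) * x ^ 1 + 1 * x ^ 2) ^ 2 * (1 + 1 * x ^ 4) ^ 1 * (1 + 1 * x ^ 3 + 1 * x ^ 6) ^ 1 * (1 + (-1) * x ^ 2 + 1 * x ^ 4) ^ 1) := by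
    refine peel (s := (-1)) (t := (-2) + 1 * x ^ 1 + 2 * x ^ 2 + (-1) * x ^ 3 + (-1) * x ^ 4 + 2 * x ^ 5 + 1 * x ^ 6 + (-1) * x ^ 7 + 1 * x ^ 9) (a := 1 + 1 * x ^ 2) (by rw [hk]; ring) 2 _ (h'.trans (dvd_of_eq ?_))
    ring
  replace h' : k ∣ (781 : ℤ) ^ 1 * ((-5 : ℤ) * (1 : ℤ) ^ 6 * (7 : ℤ) ^ 4 * (8 : ℤ) ^ 3 * (3 : ℤ) ^ 2 * (1 + (-1) * x ^ 1 + 1 * x ^ 2) ^ 2 * (1 + 1 * x ^ 4) ^ 1 * (1 + 1 * x ^ 3 + 1 * x ^ 6) ^ 1 * (1 + (-1) * x ^ 2 + 1 * x ^ 4) ^ 1) := by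
    refine peel (s := (-156) + (-31) * x ^ 1 + (-6) * x ^ 2 + (-1) * x ^ 3) (t := 1 + 156 * x ^ 4 + 31 * x ^ 5 + (-150) * x ^ 6 + 126 * x ^ 7 + 25 * x ^ 8 + 5 * x ^ 9 + 1 * x ^ 10) (a := 1 + 1 * x ^ 1 + 1 * x ^ 2 + 1 * x ^ 3 + 1 * x ^ 4) (by rw [hk]; ring) 1 _ (h'.trans (dvd_of_eq ?_))
    ring
  replace h' : k ∣ (4 : ℤ) ^ 2 * ((-5 : ℤ) * (1 : ℤ) ^ 6 * (7 : ℤ) ^ 4 * (8 : ℤ) ^ 3 * (3 : ℤ) ^ 2 * (781 : ℤ) ^ 1 * (1 + 1 * x ^ 4) ^ 1 * (1 + 1 * x ^ 3 + 1 * x ^ 6) ^ 1 * (1 + (-1) * x ^ 2 + 1 * x ^ 4) ^ 1) := by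
    refine peel (s := (-1)) (t := (-1) + 1 * x ^ 2 + 1 * x ^ 3 + 1 * x ^ 4 + 1 * x ^ 5 + 1 * x ^ 8 + 1 * x ^ 9) (a := 1 + (-1) * x ^ 1 + 1 * x ^ 2) (by rw [hk]; ring) 2 _ (h'.trans (dvd_of_eq ?_))
    ring
  replace h' : k ∣ (5 : ℤ) ^ 1 * ((-5 : ℤ) * (1 : ℤ) ^ 6 * (7 : ℤ) ^ 4 * (8 : ℤ) ^ 3 * (3 : ℤ) ^ 2 * (781 : ℤ) ^ 1 * (4 : ℤ) ^ 2 * (1 + 1 * x ^ 3 + 1 * x ^ 6) ^ 1 * (1 + (-1) * x ^ 2 + 1 * x ^ 4) ^ 1) := by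
    refine peel (s := (-1)) (t := 1 * x ^ 1 + 1 * x ^ 4 + 1 * x ^ 7) (a := 1 + 1 * x ^ 4) (by rw [hk]; ring) 1 _ (h'.trans (dvd_of_eq ?_))
    ring
  replace h' : k ∣ (5 : ℤ) ^ 1 * ((-5 : ℤ) * (1 : ℤ) ^ 6 * (7 : ℤ) ^ 4 * (8 : ℤ) ^ 3 * (3 : ℤ) ^ 2 * (781 : ℤ) ^ 1 * (4 : ℤ) ^ 2 * (5 : ℤ) ^ 1 * (1 + (-1) * x ^ 2 + 1 * x ^ 4) ^ 1) := by
    refine peel (s := (-1)) (t := 1 * x ^ 1 + 1 * x ^ 5) (a := 1 + 1 * x ^ 3 + 1 * x ^ 6) (by rw [hk]; ring) 1 _ (h'.trans (dvd_of_eq ?_))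
    ring
  replace h' : k ∣ (6 : ℤ) ^ 1 * ((-5 : ℤ) * (1 : ℤ) ^ 6 * (7 : ℤ) ^ 4 * (8 : ℤ) ^ 3 * (3 : ℤ) ^ 2 * (781 : ℤ) ^ 1 * (4 : ℤ) ^ 2 * (5 : ℤ) ^ 1 * (5 : ℤ) ^ 1) := by
    refine peel (s := (-1)) (t := 1 + 1 * x ^ 1 + 1 * x ^ 2 + 1 * x ^ 3 + 1 * x ^ 4 + 1 * x ^ 5 + 1 * x ^ 7) (a := 1 + (-1) * x ^ 2 + 1 * x ^ 4) (by rw [hk]; ring) 1 _ (h'.trans (dvd_of_eq ?_))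
    ring
  have hpos : (0 : ℤ) < k ∧ (103690008576000 : ℤ) < k := by
    obtain ⟨w, hw⟩ : ∃ w : ℕ, q = w + 195 := ⟨q - 195, by omega⟩
    have e1 : 1 * k = x ^ 11 + (2101350073168710190 + 86154249032397001 * (w : ℤ) ^ 1 + 1545371432873775 * (w : ℤ) ^ 2 + 15839841727905 * (w : ℤ) ^ 3 + 101472565351 * (w : ℤ) ^ 4 + 416031526 * (w : ℤ) ^ 5 + 1066065 * (w : ℤ) ^ 6 + 1561 * (w : ℤ) ^ 7 + 1 * (w : ℤ) ^ 8) := by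
      rw [hk, hx, hw]; push_cast; ring
    have e2 : (195 : ℤ) ^ 11 ≤ x ^ 11 := pow_le_pow_left₀ (by norm_num) (by rw [hx]; exact_mod_cast hq0) _
    have e3 : (0 : ℤ) ≤ 2101350073168710190 + 86154249032397001 * (w : ℤ) ^ 1 + 1545371432873775 * (w : ℤ) ^ 2 + 15839841727905 * (w : ℤ) ^ 3 + 101472565351 * (w : ℤ) ^ 4 + 416031526 * (w : ℤ) ^ 5 + 1066065 * (w : ℤ) ^ 6 + 1561 * (w : ℤ) ^ 7 + 1 * (w : ℤ) ^ 8 := by positivity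
    norm_num at e2
    constructor <;> linarith
  have := Int.le_of_dvd (by norm_num) (dvd_abs _ _ |>.2 h')
  norm_num at this
  linarith [hpos.1, hpos.2]

theorem not_dvd_6 {q : ℕ} (hq : IsPrimePow q) (hq0 : 195 ≤ q) : ¬ (bnd q - 6) ∣ ord' q := by
  intro h
  have hle : 6 ≤ bnd q := by
    have h1 : 1 ≤ (q ^ 6 + q ^ 3 + 1) * (q ^ 4 + 1) := Nat.one_le_iff_ne_zero.2 (by positivity)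
    calc 6 ≤ q * 1 := by omega
      _ ≤ _ := by rw [bnd, mul_assoc]; exact Nat.mul_le_mul_left _ h1
  have h' : ((bnd q - 6 : ℕ) : ℤ) ∣ (ord' q : ℤ) := Int.natCast_dvd_natCast.2 h
  rw [Nat.cast_sub hle, ord'_cast (by omega)] at h'
  simp only [bnd, Nat.cast_mul, Nat.cast_add, Nat.cast_pow, Nat.cast_one, Nat.cast_ofNat] at h'
  set x : ℤ := (q : ℤ) with hx
  set k : ℤ := 6 + 5 * x ^ 1 + 5 * x ^ 2 + 5 * x ^ 3 + 4 * x ^ 4 + 3 * x ^ 5 + 3 * x ^ 6 + 2 * x ^ 7 + 1 * x ^ 8 + 1 * x ^ 9 + 1 * x ^ 10 with hk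
  replace h' : k ∣ x ^ 36 * (((-1) + 1 * x ^ 1) ^ 6 * (1 + 1 * x ^ 1) ^ 4 * (1 + 1 * x ^ 1 + 1 * x ^ 2) ^ 3 * (1 + 1 * x ^ 2) ^ 2 * (1 + 1 * x ^ 1 + 1 * x ^ 2 + 1 * x ^ 3 + 1 * x ^ 4) ^ 1 * (1 + (-1) * x ^ 1 + 1 * x ^ 2) ^ 2 * (1 + 1 * x ^ 4) ^ 1 * (1 + 1 * x ^ 3 + 1 * x ^ 6) ^ 1 * (1 + (-1) * x ^ 2 + 1 * x ^ 4) ^ 1) := by
    refine dvd_trans ⟨(-1) + 1 * x ^ 1, ?_⟩ h'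
    rw [hk]; ring
  replace h' := peel_prime_pow hq (r := 5 + 5 * x ^ 1 + 5 * x ^ 2 + 4 * x ^ 3 + 3 * x ^ 4 + 3 * x ^ 5 + 2 * x ^ 6 + 1 * x ^ 7 + 1 * x ^ 8 + 1 * x ^ 9) (c := 6) (by rw [hk]; ring) (by norm_num) (by norm_num; omega) h'
  simp only [← mul_assoc] at h'
  replace h' : k ∣ (36 : ℤ) ^ 6 * ((6 : ℤ) * (1 + 1 * x ^ 1) ^ 4 * (1 + 1 * x ^ 1 + 1 * x ^ 2) ^ 3 * (1 + 1 * x ^ 2) ^ 2 * (1 + 1 * x ^ 1 + 1 * x ^ 2 + 1 * x ^ 3 + 1 * x ^ 4) ^ 1 * (1 + (-1) * x ^ 1 + 1 * x ^ 2) ^ 2 * (1 + 1 * x ^ 4) ^ 1 * (1 + 1 * x ^ 3 + 1 * x ^ 6) ^ 1 * (1 + (-1) * x ^ 2 + 1 * x ^ 4) ^ 1) := by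
    refine peel (s := 1) (t := (-30) + (-25) * x ^ 1 + (-20) * x ^ 2 + (-15) * x ^ 3 + (-11) * x ^ 4 + (-8) * x ^ 5 + (-5) * x ^ 6 + (-3) * x ^ 7 + (-2) * x ^ 8 + (-1) * x ^ 9) (a := (-1) + 1 * x ^ 1) (by rw [hk]; ring) 6 _ (h'.trans (dvd_of_eq ?_))
    ring
  replace h' : k ∣ (4 : ℤ) ^ 4 * ((6 : ℤ) * (36 : ℤ) ^ 6 * (1 + 1 * x ^ 1 + 1 * x ^ 2) ^ 3 * (1 + 1 * x ^ 2) ^ 2 * (1 + 1 * x ^ 1 + 1 * x ^ 2 + 1 * x ^ 3 + 1 * x ^ 4) ^ 1 * (1 + (-1) * x ^ 1 + 1 * x ^ 2) ^ 2 * (1 + 1 * x ^ 4) ^ 1 * (1 + 1 * x ^ 3 + 1 * x ^ 6) ^ 1 * (1 + (-1) * x ^ 2 + 1 * x ^ 4) ^ 1) := by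
    refine peel (s := 1) (t := (-2) + (-3) * x ^ 1 + (-2) * x ^ 2 + (-3) * x ^ 3 + (-1) * x ^ 4 + (-2) * x ^ 5 + (-1) * x ^ 6 + (-1) * x ^ 7 + (-1) * x ^ 9) (a := 1 + 1 * x ^ 1) (by rw [hk]; ring) 4 _ (h'.trans (dvd_of_eq ?_))
    ring
  replace h' : k ∣ (9 : ℤ) ^ 3 * ((6 : ℤ) * (36 : ℤ) ^ 6 * (4 : ℤ) ^ 4 * (1 + 1 * x ^ 2) ^ 2 * (1 + 1 * x ^ 1 + 1 * x ^ 2 + 1 * x ^ 3 + 1 * x ^ 4) ^ 1 * (1 + (-1) * x ^ 1 + 1 * x ^ 2) ^ 2 * (1 + 1 * x ^ 4) ^ 1 * (1 + 1 * x ^ 3 + 1 * x ^ 6) ^ 1 * (1 + (-1) * x ^ 2 + 1 * x ^ 4) ^ 1) := by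
    refine peel (s := 1 + (-1) * x ^ 1) (t := 3 + (-2) * x ^ 1 + (-1) * x ^ 2 + 3 * x ^ 3 + (-1) * x ^ 4 + (-1) * x ^ 5 + 2 * x ^ 6 + (-1) * x ^ 8 + 1 * x ^ 9) (a := 1 + 1 * x ^ 1 + 1 * x ^ 2) (by rw [hk]; ring) 3 _ (h'.trans (dvd_of_eq ?_))
    ring
  replace h' : k ∣ (4 : ℤ) ^ 2 * ((6 : ℤ) * (36 : ℤ) ^ 6 * (4 : ℤ) ^ 4 * (9 : ℤ) ^ 3 * (1 + 1 * x ^ 1 + 1 * x ^ 2 + 1 * x ^ 3 + 1 * x ^ 4) ^ 1 * (1 + (-1) * x ^ 1 + 1 * x ^ 2) ^ 2 * (1 + 1 * x ^ 4) ^ 1 * (1 + 1 * x ^ 3 + 1 * x ^ 6) ^ 1 * (1 + (-1) * x ^ 2 + 1 * x ^ 4) ^ 1) := by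
    refine peel (s := 1 + (-1) * x ^ 1) (t := (-2) + 1 * x ^ 1 + 2 * x ^ 2 + (-1) * x ^ 3 + (-1) * x ^ 4 + 2 * x ^ 5 + 1 * x ^ 6 + (-1) * x ^ 7 + 1 * x ^ 9) (a := 1 + 1 * x ^ 2) (by rw [hk]; ring) 2 _ (h'.trans (dvd_of_eq ?_))
    ring
  replace h' : k ∣ (311 : ℤ) ^ 1 * ((6 : ℤ) * (36 : ℤ) ^ 6 * (4 : ℤ) ^ 4 * (9 : ℤ) ^ 3 * (4 : ℤ) ^ 2 * (1 + (-1) * x ^ 1 + 1 * x ^ 2) ^ 2 * (1 + 1 * x ^ 4) ^ 1 * (1 + 1 * x ^ 3 + 1 * x ^ 6) ^ 1 * (1 + (-1) * x ^ 2 + 1 * x ^ 4) ^ 1) := by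
    refine peel (s := 52 + (-43) * x ^ 1 + (-7) * x ^ 2 + (-1) * x ^ 3) (t := (-1) + (-1) * x ^ 1 + (-1) * x ^ 2 + (-1) * x ^ 3 + 51 * x ^ 4 + 8 * x ^ 5 + (-51) * x ^ 6 + 43 * x ^ 7 + 7 * x ^ 8 + 1 * x ^ 9) (a := 1 + 1 * x ^ 1 + 1 * x ^ 2 + 1 * x ^ 3 + 1 * x ^ 4) (by rw [hk]; ring) 1 _ (h'.trans (dvd_of_eq ?_))
    ring
  replace h' : k ∣ (5 : ℤ) ^ 2 * ((6 : ℤ) * (36 : ℤ) ^ 6 * (4 : ℤ) ^ 4 * (9 : ℤ) ^ 3 * (4 : ℤ) ^ 2 * (311 : ℤ) ^ 1 * (1 + 1 * x ^ 4) ^ 1 * (1 + 1 * x ^ 3 + 1 * x ^ 6) ^ 1 * (1 + (-1) * x ^ 2 + 1 * x ^ 4) ^ 1) := by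
    refine peel (s := 1 + (-1) * x ^ 1) (t := (-1) + 1 * x ^ 2 + 1 * x ^ 3 + 1 * x ^ 4 + 1 * x ^ 5 + 1 * x ^ 8 + 1 * x ^ 9) (a := 1 + (-1) * x ^ 1 + 1 * x ^ 2) (by rw [hk]; ring) 2 _ (h'.trans (dvd_of_eq ?_))
    ring
  replace h' : k ∣ (6 : ℤ) ^ 1 * ((6 : ℤ) * (36 : ℤ) ^ 6 * (4 : ℤ) ^ 4 * (9 : ℤ) ^ 3 * (4 : ℤ) ^ 2 * (311 : ℤ) ^ 1 * (5 : ℤ) ^ 2 * (1 + 1 * x ^ 3 + 1 * x ^ 6) ^ 1 * (1 + (-1) * x ^ 2 + 1 * x ^ 4) ^ 1) := by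
    refine peel (s := 1 + (-1) * x ^ 1) (t := 1 * x ^ 1 + 1 * x ^ 4 + 1 * x ^ 7) (a := 1 + 1 * x ^ 4) (by rw [hk]; ring) 1 _ (h'.trans (dvd_of_eq ?_))
    ring
  replace h' : k ∣ (6 : ℤ) ^ 1 * ((6 : ℤ) * (36 : ℤ) ^ 6 * (4 : ℤ) ^ 4 * (9 : ℤ) ^ 3 * (4 : ℤ) ^ 2 * (311 : ℤ) ^ 1 * (5 : ℤ) ^ 2 * (6 : ℤ) ^ 1 * (1 + (-1) * x ^ 2 + 1 * x ^ 4) ^ 1) := by
    refine peel (s := 1 + (-1) * x ^ 1) (t := 1 * x ^ 1 + 1 * x ^ 5) (a := 1 + 1 * x ^ 3 + 1 * x ^ 6) (by rw [hk]; ring) 1 _ (h'.trans (dvd_of_eq ?_))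
    ring
  replace h' : k ∣ (7 : ℤ) ^ 1 * ((6 : ℤ) * (36 : ℤ) ^ 6 * (4 : ℤ) ^ 4 * (9 : ℤ) ^ 3 * (4 : ℤ) ^ 2 * (311 : ℤ) ^ 1 * (5 : ℤ) ^ 2 * (6 : ℤ) ^ 1 * (6 : ℤ) ^ 1) := by
    refine peel (s := 1 + (-1) * x ^ 1) (t := 1 + 1 * x ^ 1 + 1 * x ^ 2 + 1 * x ^ 3 + 1 * x ^ 4 + 1 * x ^ 5 + 1 * x ^ 7) (a := 1 + (-1) * x ^ 2 + 1 * x ^ 4) (by rw [hk]; ring) 1 _ (h'.trans (dvd_of_eq ?_))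
    ring
  have hpos : (0 : ℤ) < k ∧ (76410786470564148019200 : ℤ) < k := by
    obtain ⟨w, hw⟩ : ∃ w : ℕ, q = w + 195 := ⟨q - 195, by omega⟩
    have e1 : 1 * k = x ^ 10 + (409784817143156686731 + 18902201757669522830 * (w : ℤ) ^ 1 + 387513563895133655 * (w : ℤ) ^ 2 + 4634242080217625 * (w : ℤ) ^ 3 + 35627512155304 * (w : ℤ) ^ 4 + 182600312313 * (w : ℤ) ^ 5 + 623916933 * (w : ℤ) ^ 6 + 1370462 * (w : ℤ) ^ 7 + 1756 * (w : ℤ) ^ 8 + 1 * (w : ℤ) ^ 9) := by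
      rw [hk, hx, hw]; push_cast; ring
    have e2 : (195 : ℤ) ^ 10 ≤ x ^ 10 := pow_le_pow_left₀ (by norm_num) (by rw [hx]; exact_mod_cast hq0) _
    have e3 : (0 : ℤ) ≤ 409784817143156686731 + 18902201757669522830 * (w : ℤ) ^ 1 + 387513563895133655 * (w : ℤ) ^ 2 + 4634242080217625 * (w : ℤ) ^ 3 + 35627512155304 * (w : ℤ) ^ 4 + 182600312313 * (w : ℤ) ^ 5 + 623916933 * (w : ℤ) ^ 6 + 1370462 * (w : ℤ) ^ 7 + 1756 * (w : ℤ) ^ 8 + 1 * (w : ℤ) ^ 9 := by positivity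
    norm_num at e2
    constructor <;> linarith
  have := Int.le_of_dvd (by norm_num) (dvd_abs _ _ |>.2 h')
  norm_num at this
  linarith [hpos.1, hpos.2]

set_option maxRecDepth 100000 in
theorem small_check : ∀ q : Fin 195, ∀ e : Fin 7, 2 ≤ q.val → 1 ≤ e.val →
    ord' q.val % (bnd q.val - e.val) = 0 → (q.val = 2 ∧ e.val = 2) ∨ (q.val = 4 ∧ e.val = 4) := by
  decide +kernel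

/-- only two degrees just below the bound divide the group order -/
theorem dvd_cases {q e : ℕ} (hq : IsPrimePow q) (he1 : 1 ≤ e) (he6 : e ≤ 6) (h : (bnd q - e) ∣ ord' q) :
    (q = 2 ∧ e = 2) ∨ (q = 4 ∧ e = 4) := by
  rcases Nat.lt_or_ge q 195 with hlt | hge
  · exact small_check ⟨q, hlt⟩ ⟨e, by omega⟩ hq.two_le he1 (Nat.mod_eq_zero_of_dvd h)
  · exfalso
    rcases (show e = 1 ∨ e = 2 ∨ e = 3 ∨ e = 4 ∨ e = 5 ∨ e = 6 by omega) with rfl | rfl | rfl | rfl | rfl | rfl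
    exacts [not_dvd_1 hq hge h, not_dvd_2 hq hge h, not_dvd_3 hq hge h, not_dvd_4 hq hge h,
      not_dvd_5 hq hge h, not_dvd_6 hq hge h]

end Cfsg.Agent.E6Deg54
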