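import Cfsg.Agent.Chev54.E6Deg.Recursion

/-!
`q⁵ - 1` divides the order of the centralizer of the root element of `α₁` in type E6.
-/

set_option autoImplicit false

noncomputable section

namespace Cfsg.Agent.E6Deg54

open Cfsg.Lie Cfsg.Agent.ChevCore Cfsg.Agent.KnownSimple.Steinberg Cfsg.Agent.RootMove54

universe u

variable {F : Type u} [Field F] [Fintype F]

/-- the datum is simply laced -/
abbrev S6 : SLD chevE6 := sldE6

/-- the root element -/
abbrev X6 (r : Rt chevE6) (t : F) : ↥(chevE6.group F) := X S6 r t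

/-- the product over the five roots -/
def prodE (L : List (Rt chevE6)) (a : Rt chevE6 → F) : ↥(chevE6.group F) :=
  (L.map fun s => X6 s (a s)).prod

set_option maxRecDepth 100000 in
theorem pairs_cert : pairs.all (fun e =>
    decide (e.2.1 ∈ five) && decide (e.2.2 ∈ five) && decide (e.2.1 ≠ e.2.2) &&
    (match ent chevE6 e.1 e.2.1 with | none => false | some (c, _) => decide (c = e.2.2)) &&
    decide (a1.val ≠ nng chevE6 e.1.val) && decide (ent chevE6 e.1 a1 = none) &&
    (five.all fun s => decide (s.val ≠ nng chevE6 e.1.val) &&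
      (decide (s = e.2.1) || decide (ent chevE6 e.1 s = none)))) = true := by
  decide +kernel

set_option maxRecDepth 100000 in
theorem five_comm : ∀ r ∈ five, ∀ s ∈ five, s.val ≠ chevE6.neg r.val ∧ ent chevE6 r s = none := by
  decide +kernel

theorem five_pairs : ∀ s ∈ five, ∀ c ∈ five, s ≠ c → ∃ r, (r, s, c) ∈ pairs := by decide +kernel

theorem five_commute {r s : Rt chevE6} (hr : r ∈ five) (hs : s ∈ five) (t u : F) :
    Commute (X6 r t) (X6 s u) := by
  obtain ⟨h1, h2⟩ := five_comm r hr s hs
  have := X_comm S6 r s h1 h2 t u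
  rw [mul_assoc, inv_mul_eq_iff_eq_mul] at this
  exact this.symm

theorem prodE_commute {L : List (Rt chevE6)} (hL : ∀ s ∈ L, s ∈ five) (a : Rt chevE6 → F)
    {c : Rt chevE6} (hc : c ∈ five) (v : F) : Commute (prodE L a) (X6 c v) := by
  induction L with
  | nil => exact Commute.one_left _
  | cons s L ih =>
    rw [prodE, List.map_cons, List.prod_cons]
    exact (five_commute (hL s List.mem_cons_self) hc _ _).mul_left
      (ih fun x hx => hL x (List.mem_cons_of_mem _ hx))

theorem prodE_congr {L : List (Rt chevE6)} {a b : Rt chevE6 → F} (h : ∀ s ∈ L, a s = b s) :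
    prodE L a = prodE L b := by
  unfold prodE
  exact congrArg List.prod (List.map_congr_left fun s hs => by rw [h s hs])

theorem prodE_update {L : List (Rt chevE6)} (hL : ∀ s ∈ L, s ∈ five) (hn : L.Nodup) {c : Rt chevE6}
    (hc : c ∈ L) (a : Rt chevE6 → F) (v : F) :
    prodE L (Function.update a c (a c + v)) = prodE L a * X6 c v := by
  induction L with
  | nil => simp at hc
  | cons s L ih =>
    obtain ⟨hs, hn'⟩ := List.nodup_cons.1 hn
    have hL' : ∀ x ∈ L, x ∈ five := fun x hx => hL x (List.mem_cons_of_mem _ hx)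
    unfold prodE
    rw [List.map_cons, List.prod_cons, List.map_cons, List.prod_cons]
    rcases List.mem_cons.1 hc with rfl | hc
    · rw [Function.update_self]
      have e : ∀ x ∈ L, Function.update a c (a c + v) x = a x := fun x hx =>
        Function.update_of_ne (by rintro rfl; exact hs hx) _ _
      change X6 c (a c + v) * prodE L _ = X6 c (a c) * prodE L a * X6 c v
      rw [prodE_congr e, X6, X6, X6, X_add, mul_assoc, mul_assoc,
        (prodE_commute hL' a (hL c List.mem_cons_self) v).eq]
    · rw [Function.update_of_ne (by rintro rfl; exact hs hc), mul_assoc]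
      exact congrArg _ (ih hL' hn' hc)

theorem prodE_conj {e : Rt chevE6 × Rt chevE6 × Rt chevE6} (he : e ∈ pairs) {z : ℤ}
    (hz : ent chevE6 e.1 e.2.1 = some (e.2.2, z)) (a : Rt chevE6 → F) (t : F) :
    (X6 e.1 t)⁻¹ * prodE five a * X6 e.1 t =
      prodE five (Function.update a e.2.2 (a e.2.2 + -((z : F) * t * a e.2.1))) := by
  have hc := List.all_eq_true.1 pairs_cert _ he
  simp only [nng_eq, Bool.and_eq_true, decide_eq_true_eq, List.all_eq_true, Bool.or_eq_true] at hc
  obtain ⟨⟨⟨⟨⟨⟨hs, hc2⟩, -⟩, -⟩, -⟩, -⟩, hfive⟩ := hc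
  rw [prodE_update (fun _ h => h) (by decide +kernel) hc2]
  have key : ∀ L : List (Rt chevE6), (∀ x ∈ L, x ∈ five) → L.Nodup →
      (X6 e.1 t)⁻¹ * prodE L a * X6 e.1 t =
        prodE L a * X6 e.2.2 (if e.2.1 ∈ L then -((z : F) * t * a e.2.1) else 0) := by
    intro L
    induction L with
    | nil =>
      intro _ _
      rw [if_neg List.not_mem_nil, show X6 e.2.2 (0 : F) = 1 from X_zero S6 _]
      simp [prodE]
    | cons s L ih =>
      intro hL hn
      obtain ⟨hsL, hn'⟩ := List.nodup_cons.1 hn
      have hL' : ∀ x ∈ L, x ∈ five := fun x hx => hL x (List.mem_cons_of_mem _ hx)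
      have ih' := ih hL' hn'
      unfold prodE at ih' ⊢
      rw [List.map_cons, List.prod_cons]
      generalize hP : (L.map fun s => X6 s (a s)).prod = P at ih' ⊢
      have hsplit : (X6 e.1 t)⁻¹ * (X6 s (a s) * P) * X6 e.1 t =
          ((X6 e.1 t)⁻¹ * X6 s (a s) * X6 e.1 t) * ((X6 e.1 t)⁻¹ * P * X6 e.1 t) := by group
      rw [hsplit, ih']
      obtain ⟨h1, h2⟩ := hfive s (hL s List.mem_cons_self)
      by_cases hse : s = e.2.1
      · subst hse
        rw [if_neg hsL, if_pos List.mem_cons_self, show X6 e.2.2 (0 : F) = 1 from X_zero S6 _,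
          mul_one, X_conj S6 _ _ _ hz]
        have hP' : P = prodE L a := hP.symm
        rw [hP', mul_assoc, ← (prodE_commute hL' a hc2 _).eq, mul_assoc]
        exact (mul_assoc _ _ _).symm
      · rw [X_comm S6 _ _ h1 (h2.resolve_left hse)]
        simp only [List.mem_cons, Ne.symm hse, false_or, mul_assoc]
  rw [key five (fun _ h => h) (by decide +kernel), if_pos hs]

theorem exists_pair {s c : Rt chevE6} (hs : s ∈ five) (hc : c ∈ five) (hne : s ≠ c) :
    ∃ r z, (r, s, c) ∈ pairs ∧ ent chevE6 r s = some (c, z) ∧ (z : F) ≠ 0 := by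
  obtain ⟨r, hr⟩ := five_pairs s hs c hc hne
  have h := List.all_eq_true.1 pairs_cert _ hr
  simp only [Bool.and_eq_true] at h
  obtain ⟨⟨⟨⟨-, h⟩, -⟩, -⟩, -⟩ := h
  rcases e : ent chevE6 r s with _ | ⟨c', z⟩
  · rw [e] at h; simp at h
  rw [e] at h
  obtain rfl : c' = c := of_decide_eq_true h
  exact ⟨r, z, hr, e, cast_sign_ne_zero (ent_some S6 e).2⟩

theorem prodE_inj {a b : Rt chevE6 → F} (h : prodE five a = prodE five b) : ∀ s ∈ five, a s = b s := by
  intro s hs
  obtain ⟨c, hc, hne⟩ : ∃ c ∈ five, s ≠ c := by revert s; decide +kernel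
  obtain ⟨r, z, hp, hz, hz0⟩ := exists_pair (F := F) hs hc hne
  have h1 := prodE_conj hp hz a 1
  have h2 := prodE_conj hp hz b 1
  rw [h, h2, prodE_update (fun _ h => h) (by decide +kernel) hc,
    prodE_update (fun _ h => h) (by decide +kernel) hc, h] at h1
  have h3 := mul_left_cancel h1
  have h4 : X6 c (-((z : F) * 1 * b s) - -((z : F) * 1 * a s)) = 1 := by
    rw [show X6 c (-((z : F) * 1 * b s) - -((z : F) * 1 * a s)) =
      X6 c (-((z : F) * 1 * b s)) * (X6 c (-((z : F) * 1 * a s)))⁻¹ by
        rw [sub_eq_add_neg]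
        exact (X_add S6 c _ _).trans (congrArg _ (X_neg S6 c _))]
    exact mul_inv_eq_one.2 h3
  rw [X_eq_one_iff] at h4
  exact mul_left_cancel₀ hz0 (by linear_combination h4)

/-- the subgroup moving the five roots -/
def cent : Subgroup ↥(chevE6.group F) :=
  Subgroup.closure {g | ∃ e ∈ pairs, ∃ t : F, g = X6 e.1 t}

theorem cent_le : cent (F := F) ≤ Subgroup.centralizer {X6 a1 (1 : F)} := by
  refine (Subgroup.closure_le _).2 ?_
  rintro _ ⟨e, he, t, rfl⟩
  have h := List.all_eq_true.1 pairs_cert _ he
  simp only [nng_eq, Bool.and_eq_true, decide_eq_true_eq] at h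
  obtain ⟨⟨⟨-, h1⟩, h2⟩, -⟩ := h
  rw [SetLike.mem_coe, Subgroup.mem_centralizer_singleton_iff]
  have := X_comm (F := F) S6 e.1 a1 h1 h2 t 1
  rw [mul_assoc, inv_mul_eq_iff_eq_mul] at this
  exact this.symm

/-- nonzero coordinates on the five roots -/
def Vec (F : Type u) [Field F] : Type u := {a : {s // s ∈ five} → F // a ≠ 0}

/-- extension by zero -/
def ext0 (a : {s // s ∈ five} → F) : Rt chevE6 → F := fun s => if h : s ∈ five then a ⟨s, h⟩ else 0

theorem ext0_update (a : {s // s ∈ five} → F) (c : {s // s ∈ five}) (x : F) :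
    ext0 (Function.update a c x) = Function.update (ext0 a) c.1 x := by
  funext s
  by_cases hs : s ∈ five
  · by_cases hsc : s = c.1
    · subst hsc
      rw [ext0, dif_pos hs, Function.update_self, Function.update_self]
    · rw [ext0, dif_pos hs, Function.update_of_ne hsc,
        Function.update_of_ne (fun e => hsc (congrArg Subtype.val e)), ext0, dif_pos hs]
  · rw [ext0, dif_neg hs, Function.update_of_ne (fun e : s = c.1 => hs (e ▸ c.2)), ext0, dif_neg hs]

/-- the conjugation action of the subgroup on the group -/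
local instance : MulAction ↥(cent (F := F)) ↥(chevE6.group F) :=
  MulAction.compHom _ (ConjAct.toConjAct.toMonoidHom.comp (cent (F := F)).subtype)

theorem smul_def (g : ↥(cent (F := F))) (x : ↥(chevE6.group F)) :
    g • x = (g : ↥(chevE6.group F)) * x * (g : ↥(chevE6.group F))⁻¹ := rfl

/-- the point of the orbit with given coordinates -/
def pt (a : Vec F) : ↥(chevE6.group F) := prodE five (ext0 a.1)

theorem pt_inj : Function.Injective (pt (F := F)) := by
  intro a b h
  apply Subtype.ext
  funext s
  have := prodE_inj h s.1 s.2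
  simpa [ext0, s.2] using this

/-- one move -/
def nxt (s c : {s // s ∈ five}) (hne : s ≠ c) (v : F) (a : Vec F) : Vec F :=
  ⟨Function.update a.1 c (a.1 c + v * a.1 s), fun h => a.2 <| by
    have hs : a.1 s = 0 := by
      have := congrFun h s
      rwa [Function.update_of_ne hne] at this
    rw [hs, mul_zero, add_zero, Function.update_eq_self] at h
    exact h⟩

theorem nxt_orbit (s c : {s // s ∈ five}) (hne : s ≠ c) (v : F) (a : Vec F) :
    pt (nxt s c hne v a) ∈ MulAction.orbit ↥(cent (F := F)) (pt a) := by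
  obtain ⟨r, z, hp, hz, hz0⟩ := exists_pair (F := F) s.2 c.2 (fun e => hne (Subtype.ext e))
  have h := prodE_conj hp hz (ext0 a.1) (-v / (z : F))
  refine ⟨⟨(X6 r (-v / (z : F)))⁻¹, inv_mem (Subgroup.subset_closure ⟨_, hp, _, rfl⟩)⟩, ?_⟩
  show (X6 r (-v / (z : F)))⁻¹ * pt a * ((X6 r (-v / (z : F)))⁻¹)⁻¹ = _
  rw [inv_inv]
  refine h.trans ?_
  unfold pt nxt
  rw [ext0_update]
  congr 2
  simp only [ext0, dif_pos s.2, dif_pos c.2, Subtype.coe_eta]
  field_simp

/-- the standard point -/
def base : Vec F := ⟨Pi.single ⟨67, by decide +kernel⟩ 1, by simp⟩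

theorem orbit_eq : MulAction.orbit ↥(cent (F := F)) (pt (base (F := F))) = Set.range (pt (F := F)) := by
  classical
  apply le_antisymm
  · have hgen : ∀ g : ↥(chevE6.group F), g ∈ cent (F := F) →
        ∀ a : Vec F, ∃ b : Vec F, g * pt a * g⁻¹ = pt b := by
      intro g hg
      induction hg using Subgroup.closure_induction_left with
      | one => intro a; exact ⟨a, by simp⟩
      | mul_left x hx y _ ih =>
        intro a
        obtain ⟨b, hb⟩ := ih a
        obtain ⟨⟨r, s, c⟩, he, t, rfl⟩ := hx
        have h := List.all_eq_true.1 pairs_cert _ he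
        simp only [nng_eq, Bool.and_eq_true, decide_eq_true_eq] at h
        obtain ⟨⟨⟨⟨⟨⟨hs, hc⟩, hne⟩, hent⟩, -⟩, -⟩, -⟩ := h
        rcases e : ent chevE6 r s with _ | ⟨c', z⟩
        · rw [e] at hent; simp at hent
        rw [e] at hent
        obtain rfl : c' = c := of_decide_eq_true hent
        refine ⟨nxt ⟨s, hs⟩ ⟨c', hc⟩ (fun e => hne (congrArg Subtype.val e)) ((z : F) * t) b, ?_⟩
        have h := prodE_conj he e (ext0 b.1) (-t)
        rw [show X6 r (-t) = (X6 r t)⁻¹ from X_neg S6 r t, inv_inv] at h
        calc _ = X6 r t * (y * pt a * y⁻¹) * (X6 r t)⁻¹ := by group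
          _ = _ := by
            rw [hb]
            refine h.trans ?_
            unfold pt nxt
            rw [ext0_update]
            congr 2
            simp only [ext0, dif_pos hs, dif_pos hc]
            ring
      | inv_mul_cancel x hx y _ ih =>
        intro a
        obtain ⟨b, hb⟩ := ih a
        obtain ⟨⟨r, s, c⟩, he, t, rfl⟩ := hx
        have h := List.all_eq_true.1 pairs_cert _ he
        simp only [nng_eq, Bool.and_eq_true, decide_eq_true_eq] at h
        obtain ⟨⟨⟨⟨⟨⟨hs, hc⟩, hne⟩, hent⟩, -⟩, -⟩, -⟩ := h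
        rcases e : ent chevE6 r s with _ | ⟨c', z⟩
        · rw [e] at hent; simp at hent
        rw [e] at hent
        obtain rfl : c' = c := of_decide_eq_true hent
        refine ⟨nxt ⟨s, hs⟩ ⟨c', hc⟩ (fun e => hne (congrArg Subtype.val e)) (-((z : F) * t)) b, ?_⟩
        have h := prodE_conj he e (ext0 b.1) t
        calc _ = (X6 r t)⁻¹ * (y * pt a * y⁻¹) * X6 r t := by group
          _ = _ := by
            rw [hb]
            refine h.trans ?_
            unfold pt nxt
            rw [ext0_update]
            congr 2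
            simp only [ext0, dif_pos hs, dif_pos hc]
            ring
    rintro _ ⟨⟨g, hg⟩, rfl⟩
    obtain ⟨b, hb⟩ := hgen g hg base
    exact ⟨b, hb.symm⟩
  · rintro _ ⟨a, rfl⟩
    have reach : ∀ (s c : {s // s ∈ five}) (hne : s ≠ c) (v : F) (x : Vec F),
        pt x ∈ MulAction.orbit ↥(cent (F := F)) (pt (base (F := F))) →
        pt (nxt s c hne v x) ∈ MulAction.orbit ↥(cent (F := F)) (pt (base (F := F))) := fun s c hne v x hx => by
      rw [← MulAction.orbit_eq_iff.2 hx]
      exact nxt_orbit s c hne v x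
    let O : ({s // s ∈ five} → F) → Prop := fun x =>
      ∃ y : Vec F, y.1 = x ∧ pt y ∈ MulAction.orbit ↥(cent (F := F)) (pt (base (F := F)))
    have step : ∀ (s c : {s // s ∈ five}) (x : {s // s ∈ five} → F) (b : F), s ≠ c → x s ≠ 0 →
        O x → O (Function.update x c b) := by
      rintro s c x b hne hx ⟨y, rfl, hy⟩
      refine ⟨nxt s c hne ((b - y.1 c) / y.1 s) y, ?_, reach s c hne _ y hy⟩
      show Function.update y.1 c _ = _
      congr 1
      field_simp
      ring
    have single : ∀ (c : {s // s ∈ five}) (b : F), b ≠ 0 → O (Pi.single c b) := by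
      intro c b hb
      have h0 : O (Pi.single (⟨67, by decide +kernel⟩ : {s // s ∈ five}) (1 : F)) :=
        ⟨base, rfl, MulAction.mem_orbit_self _⟩
      have mv : ∀ (s c : {s // s ∈ five}) (u b : F), s ≠ c → u ≠ 0 → b ≠ 0 → O (Pi.single s u) →
          O (Pi.single c b) := by
        intro s c u b hne hu hb hO
        have h1 := step s c _ b hne (by rw [Pi.single_eq_same]; exact hu) hO
        have h2 := step c s _ 0 hne.symm (by rw [Function.update_self]; exact hb) h1
        convert h2 using 1
        funext x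
        by_cases hxs : x = s
        · subst hxs; rw [Function.update_self, Pi.single_eq_of_ne hne]
        · rw [Function.update_of_ne hxs]
          by_cases hxc : x = c
          · subst hxc; rw [Function.update_self, Pi.single_eq_same]
          · rw [Function.update_of_ne hxc, Pi.single_eq_of_ne hxs, Pi.single_eq_of_ne hxc]
      by_cases hc : c = (⟨67, by decide +kernel⟩ : {s // s ∈ five})
      · subst hc
        exact mv ⟨68, by decide +kernel⟩ _ 1 b (by decide +kernel) one_ne_zero hb
          (mv _ _ 1 1 (by decide +kernel) one_ne_zero one_ne_zero h0)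
      · exact mv _ c 1 b (Ne.symm hc) one_ne_zero hb h0
    obtain ⟨s0, hs0⟩ : ∃ s, a.1 s ≠ 0 := Function.ne_iff.1 a.2
    have fill : ∀ T : Finset {s // s ∈ five}, s0 ∉ T →
        O (fun x => if x ∈ T ∨ x = s0 then a.1 x else 0) := by
      intro T
      induction T using Finset.induction_on with
      | empty =>
        intro _
        convert single s0 (a.1 s0) hs0 using 1
        funext x
        by_cases hx : x = s0
        · subst hx; simp
        · simp [hx]
      | insert c T hcT ih =>
        intro hs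
        rw [Finset.mem_insert, not_or] at hs
        have h1 := step s0 c _ (a.1 c) hs.1 (by simpa using hs0) (ih hs.2)
        convert h1 using 1
        funext x
        by_cases hx : x = c
        · subst hx; simp
        · simp [hx]
    obtain ⟨y, hy1, hy2⟩ := fill (Finset.univ.erase s0) (Finset.notMem_erase _ _)
    have : y = a := Subtype.ext (hy1.trans (funext fun x => if_pos (by
      by_cases hx : x = s0
      · exact Or.inr hx
      · exact Or.inl (Finset.mem_erase.2 ⟨hx, Finset.mem_univ _⟩))))
    rwa [this] at hy2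

/-- the divisibility -/
theorem dvd_card_centralizer :
    Fintype.card F ^ 5 - 1 ∣ Nat.card ↥(Subgroup.centralizer {X6 a1 (1 : F)}) := by
  classical
  refine dvd_trans ?_ (Subgroup.card_dvd_of_le (cent_le (F := F)))
  haveI : Finite ↥(chevE6.group F) := inferInstance
  letI : Fintype ↥(cent (F := F)) := Fintype.ofFinite _
  letI : Fintype ↥(MulAction.orbit ↥(cent (F := F)) (pt (base (F := F)))) := Fintype.ofFinite _
  letI : Fintype ↥(MulAction.stabilizer ↥(cent (F := F)) (pt (base (F := F)))) := Fintype.ofFinite _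
  have h := MulAction.card_orbit_mul_card_stabilizer_eq_card_group ↥(cent (F := F)) (pt (base (F := F)))
  rw [Nat.card_eq_fintype_card, ← h]
  refine dvd_mul_of_dvd_left (dvd_of_eq ?_) _
  refine Eq.trans ?_ Nat.card_eq_fintype_card
  rw [orbit_eq, Nat.card_range_of_injective pt_inj]
  letI : Fintype (Vec F) := Subtype.fintype _
  show Fintype.card F ^ 5 - 1 = Nat.card (Vec F)
  rw [Nat.card_eq_fintype_card]
  show _ = Fintype.card {a : {s // s ∈ five} → F // a ≠ 0}
  rw [Fintype.card_subtype_compl, Fintype.card_fun, Fintype.card_subtype_eq,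
    show Fintype.card {s : Rt chevE6 // s ∈ five} = 5 by decide +kernel]

end Cfsg.Agent.E6Deg54
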