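import Cfsg.Agent.Chev54.RootMove.Faithful
import Cfsg.Agent.Chev54.E6Deg.Data
import Cfsg.Agent.Chev54.E6Deg.Num
import Cfsg.Agent.ChevGroup.Mat.SimpleE6

/-!
The recursion in type E6: the degree is at least the bound minus six.
-/

set_option autoImplicit false

noncomputable section

namespace Cfsg.Agent.E6Deg54

open Cfsg.Lie Cfsg.Agent.ChevCore Cfsg.Agent.RootMove54

universe u

variable {F : Type u} [Field F] [Fintype F] {k : ℕ}

/-- `α₁` -/
abbrev a1 : Rt chevE6 := 56

theorem top_w0 : top.w0 = a1 := rfl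

theorem top_prior : top.prior = [] := rfl

theorem top_a1 : a1 ∈ top.P := by decide +kernel

set_option maxRecDepth 100000 in
theorem stab_cert : stab.all (fun e =>
    Ctx.stableB top.P e.2.1 && Ctx.stableB top.P e.2.2 && decide (e.1 ≠ a1) &&
    (match ent chevE6 e.2.1 e.2.2 with | none => false | some (c, _) => decide (c = e.1)) &&
    (top.P.all fun x => match ent chevE6 e.2.1 x with | none => true | some (c, _) => decide (c ≠ a1)) &&
    (top.P.all fun x => match ent chevE6 e.2.2 x with | none => true | some (c, _) => decide (c ≠ a1)))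
    = true := by
  decide +kernel

set_option maxRecDepth 100000 in
theorem pos_cover : ∀ s ∈ lv5.P, s ∈ top.P ∨ (s ≠ a1 ∧ s ∈ stab.map Prod.fst) := by decide +kernel

set_option maxRecDepth 100000 in
theorem nv_cert : nv.all (fun e => decide (e.2.1 ∈ e.1.R) && Ctx.stableB e.1.prior e.2.2 &&
    decide (a1 ∉ e.1.prior) && (e.1.prior.all fun x => decide (x ∈ lv5.P)) && decide (e.1.path ≠ []) &&
    (match ent chevE6 e.2.1 e.2.2 with | none => false | some (c, _) => decide (c = a1))) = true := by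
  decide +kernel

theorem top_total (q : ℕ) (hq : 2 ≤ q) : bnd q ≤ 2 * top.total q := by
  obtain ⟨w, rfl⟩ : ∃ w, q = w + 2 := ⟨q - 2, by omega⟩
  simp [bnd, Lev.total, top]
  ring_nf
  omega

theorem top_big (q : ℕ) (hq : 2 ≤ q) : bnd q ≤ q ^ (top.kill.length + top.resd) := by
  obtain ⟨w, rfl⟩ : ∃ w, q = w + 2 := ⟨q - 2, by omega⟩
  simp [bnd, top]
  ring_nf
  omega

theorem chain_total (q : ℕ) (hq : 2 ≤ q) :
    bnd q ≤ lv0.total q + lv1.total q + lv2.total q + lv3.total q + lv4.total q + lv5.total q + 6 := by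
  obtain ⟨w, rfl⟩ : ∃ w, q = w + 2 := ⟨q - 2, by omega⟩
  simp [bnd, Lev.total, lv0, lv1, lv2, lv3, lv4, lv5]
  ring_nf
  omega

theorem chain_big (q : ℕ) (hq : 2 ≤ q) :
    lv1.total q + lv2.total q + lv3.total q + lv4.total q + lv5.total q ≤
      q ^ (lv1.kill.length + lv1.resd) := by
  obtain ⟨w, rfl⟩ : ∃ w, q = w + 2 := ⟨q - 2, by omega⟩
  simp [Lev.total, lv1, lv2, lv3, lv4, lv5]
  ring_nf
  omega

theorem lv0_big (q : ℕ) (hq : 2 ≤ q) : bnd q ≤ q ^ (lv0.kill.length + lv0.resd) := by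
  obtain ⟨w, rfl⟩ : ∃ w, q = w + 2 := ⟨q - 2, by omega⟩
  simp [bnd, lv0]
  ring_nf
  omega

variable (C : Ctx chevE6 F k)

/-- standing assumptions: a nontrivial irreducible representation of degree below the bound -/
structure Small : Prop where
  irr : C.ρ.IsIrreducible
  two : 2 ≤ k
  lt : k < bnd (Fintype.card F)

namespace Small

variable {C} (h : Small C)

include h

theorem q2 (_h : Small C := h) : 2 ≤ Fintype.card F := Fintype.one_lt_card

theorem moved (r : Rt chevE6) : ∃ x, C.ρ (X C.hS r (1 : F)) x ≠ x :=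
  C.move_root (Cfsg.Agent.ChevGroup.TypeE6.isSimple F).1 h.irr h.two r

theorem top_single : ∀ b : F, b ≠ 0 → 1 ≤ C.mf top.P (dlt a1 b) ∧ C.mf top.P (dlt a1 b) ≤ 1 := by
  have hk0 : C.mf top.prior (fun _ : Rt chevE6 => (0 : F)) = k := by rw [top_prior]; exact C.mf_nil _
  have hlt : C.mf top.P (fun _ => 0) < C.mf top.prior (fun _ => 0) := by
    rw [hk0]; exact C.mf_lt_of_moved (h.moved a1) top_a1
  obtain ⟨f, hf0, hf1, hf2⟩ := C.exists_gen top_check hlt
  rcases C.normal_form top_check hf0 hf1 hf2 with ⟨-, hb⟩ | ⟨t, ht, ht1⟩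
  · exfalso
    rw [mul_one, hk0] at hb
    have := top_big _ h.q2
    have := h.lt
    omega
  rcases hpath : top.path with _ | ⟨⟨r, r', c, d⟩, l⟩
  · simp [top] at hpath
  have hp : Ctx.pathB top.P [top.w0] top.path = true := by
    have := top_check
    simp only [Lev.check, Bool.and_eq_true] at this
    obtain ⟨⟨⟨⟨⟨-, hp⟩, -⟩, -⟩, -⟩, -⟩ := this
    exact hp
  rw [hpath] at hp
  have hc : c = top.w0 := by
    simp only [Ctx.pathB, Bool.and_eq_true, decide_eq_true_eq, List.mem_singleton] at hp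
    exact hp.1.1.1
  subst hc
  intro b hb
  refine ⟨C.rescale hp ht ht1 hb, ?_⟩
  by_contra h2
  have h2' : 2 ≤ C.mf top.P (dlt top.w0 b) := by rw [top_w0]; omega
  have := C.cells_bound top_check top_fst (c0 := 2) fun b' hb' => C.rescale hp hb h2' hb'
  rw [hk0] at this
  have := top_total _ h.q2
  have := h.lt
  omega

theorem exists_v {b : F} (hb : b ≠ 0) :
    ∃ v : Fin k → ℂ, v ≠ 0 ∧ v ∈ C.eig lv5.P (dlt a1 b) := by
  obtain ⟨h1, h2⟩ := h.top_single b hb
  have h12 : Module.finrank ℂ ↥(C.eig top.P (dlt a1 b)) = 1 := le_antisymm h2 h1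
  obtain ⟨v, hv0, hv⟩ := finrank_eq_one_iff'.1 h12
  refine ⟨v, fun e => hv0 (Subtype.ext e), fun s hs u => ?_⟩
  rcases pos_cover s hs with hs' | ⟨hne, hs'⟩
  · exact v.2 s hs' u
  rw [dlt_ne hne, zero_mul, AddChar.map_zero_eq_one, one_smul]
  obtain ⟨⟨b', r, s'⟩, he, rfl⟩ := List.mem_map.1 hs'
  have := List.all_eq_true.1 stab_cert _ he
  simp only [Bool.and_eq_true, List.all_eq_true] at this
  obtain ⟨⟨⟨⟨⟨hr, hs2⟩, -⟩, hent⟩, hfr⟩, hfs⟩ := this
  rcases e : ent chevE6 r s' with _ | ⟨c, z⟩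
  · rw [e] at hent; simp at hent
  rw [e] at hent
  obtain rfl : c = b' := of_decide_eq_true hent
  have scal : ∀ x : Rt chevE6, Ctx.stableB top.P x = true →
      (∀ y ∈ top.P, (match ent chevE6 x y with | none => true | some (c, _) => decide (c ≠ a1)) = true) →
      ∀ t, ∃ l : ℂ, C.ρ (X C.hS x t) (v : Fin k → ℂ) = l • (v : Fin k → ℂ) := by
    intro x hx hfx t
    have hm := C.inv_of_fix hx (f := dlt a1 b) (fun t y hy => by
      have := hfx y hy
      rcases ey : ent chevE6 x y with _ | ⟨c', z'⟩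
      · exact Ctx.mvf_none ey t _
      · rw [ey] at this
        rw [Ctx.mvf_some ey, dlt_ne (of_decide_eq_true this), mul_zero, neg_zero, add_zero]) t v.2
    obtain ⟨l, hl⟩ := hv ⟨_, hm⟩
    exact ⟨l, (congrArg Subtype.val hl).symm⟩
  exact C.fix_of_scalar e (scal r hr hfr) (scal s' hs2 hfs) u

/-- each level is moved -/
theorem level_moved {L : Lev chevE6} {r s : Rt chevE6} (he : (L, r, s) ∈ nv) :
    C.mf L.P (fun _ => (0 : F)) < C.mf L.prior (fun _ => 0) := by
  have hc := List.all_eq_true.1 nv_cert _ he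
  simp only [Bool.and_eq_true, decide_eq_true_eq, List.all_eq_true] at hc
  obtain ⟨⟨⟨⟨⟨hr, hs⟩, ha⟩, hsub⟩, -⟩, hent⟩ := hc
  rcases e : ent chevE6 r s with _ | ⟨c, z⟩
  · rw [e] at hent; simp at hent
  rw [e] at hent
  obtain rfl : c = a1 := of_decide_eq_true hent
  obtain ⟨b, hb⟩ : ∃ b : F, b ≠ 0 := ⟨1, one_ne_zero⟩
  obtain ⟨v, hv0, hv⟩ := h.exists_v hb
  by_contra hle
  push Not at hle
  have hmono : C.eig L.P (fun _ => (0 : F)) ≤ C.eig L.prior (fun _ => 0) :=
    C.eig_mono fun x hx => ⟨List.mem_append_right _ hx, rfl⟩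
  have heq := Submodule.eq_of_le_of_finrank_le hmono hle
  have hvp : v ∈ C.eig L.prior (fun _ => (0 : F)) :=
    C.eig_mono (fun x hx => ⟨hsub x hx, dlt_ne (fun e : x = a1 => ha (e ▸ hx)) b⟩) hv
  have htriv : ∀ x ∈ C.eig L.prior (fun _ => (0 : F)), ∀ t, C.ρ (X C.hS r t) x = x := fun x hx t => by
    rw [← heq] at hx
    rw [hx r (List.mem_append_left _ hr) t, zero_mul, AddChar.map_zero_eq_one, one_smul]
  have ha1 : a1 ∈ lv5.P := by decide +kernel
  obtain ⟨y, hy⟩ : ∃ y, C.ψ (b * y) ≠ 1 := by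
    by_contra hall
    push Not at hall
    exact C.hψ hb (DFunLike.ext _ _ fun y => by simpa using hall y)
  have h1 := C.fixed_of_trivial e hs htriv hvp y
  rw [hv a1 ha1 y, dlt_self] at h1
  refine hy (sub_eq_zero.1 ((smul_eq_zero.1 (?_ : (C.ψ (b * y) - 1) • v = 0)).resolve_right hv0))
  rw [sub_smul, one_smul, h1, sub_self]

theorem level_bound {L : Lev chevE6} {r s : Rt chevE6} (he : (L, r, s) ∈ nv) (hL : L.check = true)
    (hfst : L.cells.map Prod.fst = L.R) :
    (L.res ≠ [] ∧ Fintype.card F ^ (L.kill.length + L.resd) ≤ C.mf L.prior (fun _ => (0 : F))) ∨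
      C.mf L.P (fun _ => (0 : F)) + L.total (Fintype.card F) ≤ C.mf L.prior (fun _ => 0) := by
  obtain ⟨f, hf0, hf1, hf2⟩ := C.exists_gen hL (h.level_moved he)
  rcases C.normal_form hL hf0 hf1 hf2 with ⟨h1, h2⟩ | ⟨t, ht, ht1⟩
  · exact Or.inl ⟨h1, by rwa [mul_one] at h2⟩
  right
  have hc := List.all_eq_true.1 nv_cert _ he
  simp only [Bool.and_eq_true, decide_eq_true_eq, List.all_eq_true] at hc
  obtain ⟨⟨-, hpne⟩, -⟩ := hc
  rcases hpath : L.path with _ | ⟨⟨r', r'', c, d⟩, l⟩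
  · exact absurd hpath hpne
  have hp : Ctx.pathB L.P [L.w0] L.path = true := by
    have := hL
    simp only [Lev.check, Bool.and_eq_true] at this
    obtain ⟨⟨⟨⟨⟨-, hp⟩, -⟩, -⟩, -⟩, -⟩ := this
    exact hp
  rw [hpath] at hp
  have hcw : c = L.w0 := by
    simp only [Ctx.pathB, Bool.and_eq_true, decide_eq_true_eq, List.mem_singleton] at hp
    exact hp.1.1.1
  subst hcw
  simpa using C.cells_bound hL hfst (c0 := 1) fun b hb => C.rescale hp ht ht1 hb

/-- the degree is at most six below the bound -/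
theorem lower : bnd (Fintype.card F) ≤ k + 6 := by
  have hq := h.q2
  have hk0 : C.mf lv0.prior (fun _ : Rt chevE6 => (0 : F)) = k := C.mf_nil _
  have h5 : C.mf lv5.P (fun _ => (0 : F)) + lv5.total (Fintype.card F) ≤ C.mf lv5.prior (fun _ => 0) := by
    simpa using C.cells_bound lv5_check lv5_fst (c0 := 1) fun b hb => by
      obtain ⟨v, hv0, hv⟩ := h.exists_v hb
      exact Submodule.one_le_finrank_iff.2 fun e => by
        have hv' : v ∈ C.eig lv5.P (dlt lv5.w0 b) := hv
        rw [e, Submodule.mem_bot] at hv'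
        exact hv0 hv'
  have h4 := (h.level_bound (L := lv4) (r := 57) (s := 29) (by simp [nv]) lv4_check lv4_fst).resolve_left
    fun e => e.1 rfl
  have h3 := (h.level_bound (L := lv3) (r := 58) (s := 28) (by simp [nv]) lv3_check lv3_fst).resolve_left
    fun e => e.1 rfl
  have h2 := (h.level_bound (L := lv2) (r := 61) (s := 21) (by simp [nv]) lv2_check lv2_fst).resolve_left
    fun e => e.1 rfl
  have h1 := h.level_bound (L := lv1) (r := 59) (s := 27) (by simp [nv]) lv1_check lv1_fst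
  have h0 := h.level_bound (L := lv0) (r := 60) (s := 26) (by simp [nv]) lv0_check lv0_fst
  rw [hk0] at h0
  have e01 : C.mf lv0.P (fun _ => (0 : F)) = C.mf lv1.prior (fun _ => 0) := rfl
  have e12 : C.mf lv1.P (fun _ => (0 : F)) = C.mf lv2.prior (fun _ => 0) := rfl
  have e23 : C.mf lv2.P (fun _ => (0 : F)) = C.mf lv3.prior (fun _ => 0) := rfl
  have e34 : C.mf lv3.P (fun _ => (0 : F)) = C.mf lv4.prior (fun _ => 0) := rfl
  have e45 : C.mf lv4.P (fun _ => (0 : F)) = C.mf lv5.prior (fun _ => 0) := rfl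
  have t := chain_total _ hq
  have b0 := lv0_big _ hq
  have b1 := chain_big _ hq
  have := h.lt
  rcases h0 with ⟨-, h0⟩ | h0
  · omega
  rcases h1 with ⟨-, h1⟩ | h1
  · omega
  omega

end Small

end Cfsg.Agent.E6Deg54
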